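import Cfsg.Agent.Lib.Recog.Suz1782.Setup

/-!
The rank 3 group on 1782 points is the Suzuki group.
-/

set_option autoImplicit false
set_option maxRecDepth 100000

namespace CfsgLib.Recog.Suz1782

variable {Ω : Type*} [Fintype Ω] {G : Subgroup (Equiv.Perm Ω)} {a c : Ω} {ψ : ↥HH →* Equiv.Perm Ω}

/-- The swap can be chosen to act on the 100 points and on the Hall-Janko subgroup as the identity or
as the known swap. -/
theorem exists_good_swap (S : Setup G a ψ) (hΩ : Fintype.card Ω = 1782) {b' : Ω}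
    (hst : ∀ σ : ↥HH, ψ σ b' = b' ↔ (σ : PP) ∈ JJ)
    (hb : (Orb ψ b').ncard = 416) (hc : (Orb ψ c).ncard = 1365) {f : Fin 1782 → Ω} (hf0 : f pv = b')
    (hf : ∀ σ : ↥HH, ∀ x, InM maskS x → f ((σ : PP) x) = ψ σ (f x))
    (hfi : ∀ x y, InM maskS x → InM maskS y → f x = f y → x = y)
    (hfm : ∀ x, InM maskS x → f x ∈ Orb ψ b') (hfs : ∀ w ∈ Orb ψ b', ∃ x, InM maskS x ∧ f x = w) :
    ∃ g ∈ G, g a = b' ∧ g b' = a ∧ ∃ s : PP, (s = 1 ∨ s = P 7) ∧
      (∀ x, InM maskC x → g (f x) = f (s x)) ∧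
      ∀ σ : ↥HH, (σ : PP) ∈ JJ → ∀ τ : ↥HH, (τ : PP) = s * σ * s → g * ψ σ = ψ τ * g := by
  classical
  obtain ⟨g, hg, hga, hgb⟩ := exists_swap S hΩ hb hc
  have hcom := common_eq S hΩ hst hb hc hg hga hgb hf0 hf hfi hfm hfs
  have hCS : ∀ x, InM maskC x → InM maskS x := fun x h => maskS_cases.2 (Or.inr (Or.inl h))
  have hmap : ∀ i, ∃ j, g (f (E100 i)) = f (E100 j) := by
    intro i
    have h1 := (hcom _ (hCS _ (E100_mem i))).2 (E100_mem i)
    have h2 := (Adj_map hg).2 h1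
    rw [hgb] at h2
    obtain ⟨x, hx, e⟩ := hfs _ ((Adj_base S).1 h2)
    have h3 : Adj G a b' a (f (E100 i)) := (Adj_base S).2 (hfm _ (hCS _ (E100_mem i)))
    have h4 := (Adj_map hg).2 h3
    rw [hga, ← e] at h4
    obtain ⟨j, rfl⟩ := (maskC_iff x).1 ((hcom x hx).1 h4)
    exact ⟨j, e.symm⟩
  choose d hd using hmap
  have dinj : Function.Injective d := fun i j e => by
    have := hd i
    rw [e, ← hd j] at this
    exact E100_inj (hfi _ _ (hCS _ (E100_mem i)) (hCS _ (E100_mem j)) (g.injective this))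
  let D : Equiv.Perm (Fin 100) := Equiv.ofBijective d (Finite.injective_iff_bijective.1 dinj)
  have hadj : ∀ i j : Fin 100, (rowC i).testBit j = true ↔ Adj G a b' (f (E100 i)) (f (E100 j)) := by
    intro i j
    obtain ⟨h, hh, hv⟩ := HH_transS pv_mem (hCS _ (E100_mem i))
    rw [rowC_iff i j hh hv]
    have hm : InM maskS (h⁻¹ (E100 j)) := HH_invS (inv_mem hh) (hCS _ (E100_mem j))
    have e1 : ψ ⟨h, hh⟩ b' = f (E100 i) := by rw [← hv, ← hf0]; exact (hf ⟨h, hh⟩ pv pv_mem).symm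
    have e2 : ψ ⟨h, hh⟩ (f (h⁻¹ (E100 j))) = f (E100 j) := by
      rw [← hf ⟨h, hh⟩ _ hm]
      exact congrArg f (h.apply_symm_apply _)
    rw [← hcom _ hm, ← e1, ← e2, Adj_map (S.mem _)]
  have hD : D ∈ McL275.autGraph rowC 100 := McL275.mem_autGraph.2 fun i j =>
    Bool.eq_iff_iff.2 (by
      rw [hadj, hadj]
      show Adj G a b' (f (E100 (d i))) (f (E100 (d j))) ↔ _
      rw [← hd, ← hd]
      exact Adj_map hg)
  obtain ⟨σ, hσ, hres⟩ := exists_of_aut hD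
  obtain ⟨s, hs, hsres⟩ : ∃ s : PP, (s = 1 ∨ s = P 7) ∧ Res (s * σ) D := by
    rcases hres with h | h
    · exact ⟨1, Or.inl rfl, by rwa [one_mul]⟩
    · exact ⟨P 7, Or.inr rfl, h⟩
  have hs2 : s * s = 1 := by
    rcases hs with rfl | rfl
    · simp
    · exact P_mul_self (by norm_num)
  have hsC : ∀ x, InM maskC x → InM maskC (s x) := by
    rcases hs with rfl | rfl
    · exact fun x h => h
    · exact fun x h => res7.maskC h
  have hsJ : ∀ {u : PP}, u ∈ JJ → s * u * s ∈ JJ := by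
    rcases hs with rfl | rfl
    · intro u hu; simpa using hu
    · exact fun hu => conj7_mem hu
  let σ' : ↥HH := ⟨σ, JJ_le hσ⟩
  let g2 : Equiv.Perm Ω := g * (ψ σ')⁻¹
  have hg2 : g2 ∈ G := mul_mem hg (inv_mem (S.mem _))
  have hg2a : g2 a = b' := by
    show g ((ψ σ')⁻¹ a) = b'
    rw [← map_inv, S.fix, hga]
  have hg2b : g2 b' = a := by
    show g ((ψ σ')⁻¹ b') = a
    rw [← map_inv, (hst _).2 (inv_mem hσ : (σ'⁻¹ : ↥HH).1 ∈ JJ), hgb]
  have hgC : ∀ x, InM maskC x → g2 (f x) = f (s x) := by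
    intro x hx
    have hx' := JJ_invC (inv_mem hσ) hx
    obtain ⟨j, hj⟩ := (maskC_iff _).1 hx'
    show g ((ψ σ')⁻¹ (f x)) = f (s x)
    rw [← map_inv, ← hf _ _ (hCS x hx), show ((σ'⁻¹ : ↥HH) : PP) x = σ⁻¹ x from rfl, ← hj, hd]
    congr 1
    show E100 (D j) = s x
    rw [← hsres j, Equiv.Perm.mul_apply, hj, show σ (σ⁻¹ x) = x from σ.apply_symm_apply x]
  refine ⟨g2, hg2, hg2a, hg2b, s, hs, hgC, fun u hu τ hτ => ?_⟩
  have hub : ψ u b' = b' := (hst u).2 hu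
  obtain ⟨t, ht⟩ := S.surj (g2 * ψ u * g2⁻¹) (mul_mem (mul_mem hg2 (S.mem u)) (inv_mem hg2)) (by
    rw [Equiv.Perm.mul_apply, Equiv.Perm.mul_apply]
    conv_lhs => rw [← hg2b, inv_app', hub]
    exact hg2b)
  have htb : ψ t b' = b' := by
    rw [ht, Equiv.Perm.mul_apply, Equiv.Perm.mul_apply]
    conv_lhs => rw [← hg2a, inv_app', S.fix]
    exact hg2a
  have htJ : (t : PP) ∈ JJ := (hst t).1 htb
  have key : ∀ x, InM maskC x → (t : PP) (s x) = s ((u : PP) x) := by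
    intro x hx
    refine hfi _ _ (hCS _ (JJ_invC htJ (hsC x hx))) (hCS _ (hsC _ (JJ_invC hu hx))) ?_
    rw [hf t _ (hCS _ (hsC x hx)), ← hgC x hx, ht, Equiv.Perm.mul_apply, Equiv.Perm.mul_apply,
      inv_app', ← hf u x (hCS x hx), hgC _ (JJ_invC hu hx)]
  have heq : (t : PP) = s * u * s := by
    have h1 : (t : PP)⁻¹ * (s * u * s) = 1 := JJ_faithful (mul_mem (inv_mem htJ) (hsJ hu)) fun y hy => by
      have := key (s y) (hsC y hy)
      rw [show s (s y) = y by rw [← Equiv.Perm.mul_apply, hs2]; rfl] at this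
      rw [Equiv.Perm.mul_apply, Equiv.Perm.mul_apply, Equiv.Perm.mul_apply, ← this, inv_app]
    exact inv_mul_eq_one.1 h1
  rw [show τ = t from Subtype.ext (hτ.trans heq.symm), ht]
  group

/-- A point of the long suborbit with the stabiliser of 44. -/
theorem exists_far (S : Setup G a ψ) (hΩ : Fintype.card Ω = 1782) {b' : Ω}
    (hst : ∀ σ : ↥HH, ψ σ b' = b' ↔ (σ : PP) ∈ JJ)
    (hb : (Orb ψ b').ncard = 416) (hc : (Orb ψ c).ncard = 1365) {f : Fin 1782 → Ω} (hf0 : f pv = b')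
    (hf : ∀ σ : ↥HH, ∀ x, InM maskS x → f ((σ : PP) x) = ψ σ (f x))
    (hfi : ∀ x y, InM maskS x → InM maskS y → f x = f y → x = y)
    (hfm : ∀ x, InM maskS x → f x ∈ Orb ψ b') (hfs : ∀ w ∈ Orb ψ b', ∃ x, InM maskS x ∧ f x = w)
    {g : Equiv.Perm Ω} (hg : g ∈ G) (hga : g a = b') (hgb : g b' = a) {s : PP} (hs : s = 1 ∨ s = P 7)
    (hgC : ∀ x, InM maskC x → g (f x) = f (s x))
    (hconj : ∀ σ : ↥HH, (σ : PP) ∈ JJ → ∀ τ : ↥HH, (τ : PP) = s * σ * s → g * ψ σ = ψ τ * g)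
    {y : Fin 1782} (hy : InM (OJ 4) y) (hyM : ∀ σ ∈ M81, (s * σ * s) y = y) :
    g (f y) ∈ Orb ψ c ∧ ∀ σ : ↥HH, ψ σ (g (f y)) = g (f y) ↔ (σ : PP) p44 = p44 := by
  have hcom := common_eq S hΩ hst hb hc hg hga hgb hf0 hf hfi hfm hfs
  obtain ⟨hab, hac, hbc, hall⟩ := S.three hΩ hb hc
  have hyS : InM maskS y := maskS_cases.2 (Or.inr (Or.inr hy))
  have hCS : ∀ x, InM maskC x → InM maskS x := fun x h => maskS_cases.2 (Or.inr (Or.inl h))
  have hs2 : s * s = 1 := by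
    rcases hs with rfl | rfl
    · simp
    · exact P_mul_self (by norm_num)
  have hsC : ∀ x, InM maskC x → InM maskC (s x) := by
    rcases hs with rfl | rfl
    · exact fun x h => h
    · exact fun x h => res7.maskC h
  have hsJ : ∀ {u : PP}, u ∈ JJ → s * u * s ∈ JJ := by
    rcases hs with rfl | rfl
    · intro u hu; simpa using hu
    · exact fun hu => conj7_mem hu
  have hloc : g (f y) ∈ Orb ψ c := by
    rcases hall (g (f y)) with h | h | h
    · exfalso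
      rw [← hgb] at h
      have h' := g.injective h
      rw [← hf0] at h'
      rw [hfi _ _ hyS pv_mem h'] at hy
      have := maskS_split.2.2.2
      rw [show (OJ 4).testBit 995 = true from hy] at this
      exact Bool.noConfusion this
    · exfalso
      obtain ⟨x, hx, e⟩ := hfs _ h
      have h1 := (Adj_map hg).2 ((Adj_base S).2 (hfm y hyS))
      rw [hga, ← e] at h1
      have hxC := (hcom x hx).1 h1
      have h2 := hgC (s x) (hsC x hxC)
      rw [show s (s x) = x by rw [← Equiv.Perm.mul_apply, hs2]; rfl, e] at h2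
      rw [← hfi _ _ (hCS _ (hsC x hxC)) hyS (g.injective h2)] at hy
      exact not_C_O4 (hsC x hxC) hy
    · exact h
  refine ⟨hloc, fun σ => ?_⟩
  have hk := card_stabK ψ (g (f y))
  rw [Orb_eq hloc, hc] at hk
  have hM : M81 ≤ stabK ψ (g (f y)) := by
    intro u hu
    have huJ : u ∈ JJ := hu.1
    let u' : ↥HH := ⟨u, JJ_le huJ⟩
    let v : ↥HH := ⟨s * u * s, JJ_le (hsJ huJ)⟩
    refine (mem_stabK (σ := u')).2 ?_
    have he : u = s * (s * u * s) * s := by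
      calc u = (s * s) * u * (s * s) := by rw [hs2, one_mul, mul_one]
        _ = _ := by group
    have h := hconj v (hsJ huJ) u' he
    rw [← Equiv.Perm.mul_apply, ← h, Equiv.Perm.mul_apply, ← hf v y hyS]
    show g (f ((s * u * s) y)) = g (f y)
    rw [hyM u hu]
  rw [← mem_stabK, eq_stab44 (stabK_le ψ _) (by omega) hM, mem_stabIn]
  exact ⟨fun h => h.2, fun h => ⟨σ.2, h⟩⟩

theorem roots_data : maskS.testBit 0 = false ∧ maskS.testBit 44 = false ∧
    (entry orbH 1).2.2.1.testBit 0 = false ∧ (entry orbH 1).2.2.1.testBit 995 = false ∧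
    ((List.range 1782).all fun x =>
      Nat.beq x 0 || maskS.testBit x || (entry orbH 1).2.2.1.testBit x) = true := by
  refine ⟨?_, ?_, ?_, ?_, ?_⟩ <;> decide +kernel

/-- The bijection with the model respecting the point stabiliser. -/
theorem exists_equiv (S : Setup G a ψ) (hΩ : Fintype.card Ω = 1782) {b' c' : Ω}
    (hb : (Orb ψ b').ncard = 416) (hc : (Orb ψ c').ncard = 1365)
    (hstb : ∀ σ : ↥HH, ψ σ b' = b' ↔ (σ : PP) ∈ JJ)
    (hstc : ∀ σ : ↥HH, ψ σ c' = c' ↔ (σ : PP) p44 = p44) :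
    ∃ Φ : Fin 1782 ≃ Ω, (∀ σ : ↥HH, ∀ x, Φ ((σ : PP) x) = ψ σ (Φ x)) ∧
      Φ p0 = a ∧ Φ pv = b' ∧ Φ p44 = c' := by
  classical
  obtain ⟨-, hinv1, htr1⟩ := orbH_spec (i := 1) (by norm_num)
  obtain ⟨h0S, h44S, h01, hv1, hcov⟩ := roots_data
  have h44 : InM (entry orbH 1).2.2.1 p44 := entries_data.2.2.2.2.2.2.2.2.1
  let root : Fin 3 → Fin 1782 := ![p0, pv, p44]
  let val : Fin 3 → Ω := ![a, b', c']
  have cover : ∀ x, ∃ p : ↥HH × Fin 3, (p.1 : PP) (root p.2) = x := by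
    intro x
    have h := List.all_eq_true.1 hcov x (List.mem_range.2 x.2)
    simp only [Bool.or_eq_true] at h
    rcases h with (h | h) | h
    · exact ⟨(1, 0), (Fin.ext (Nat.eq_of_beq_eq_true h) : x = p0).symm⟩
    · obtain ⟨σ, hσ, e⟩ := HH_transS pv_mem h
      exact ⟨(⟨σ, hσ⟩, 1), e⟩
    · obtain ⟨σ, hσ, e⟩ := htr1 p44 x h44 h
      exact ⟨(⟨σ, hσ⟩, 2), e⟩
  have key : ∀ k : Fin 3, (InM maskS (root k) ↔ k = 1) ∧
      (InM (entry orbH 1).2.2.1 (root k) ↔ k = 2) := by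
    intro k
    fin_cases k
    · exact ⟨iff_of_false (fun h => Bool.false_ne_true (h0S.symm.trans h)) (fun h => absurd (congrArg Fin.val h) (by norm_num)),
        iff_of_false (fun h => Bool.false_ne_true (h01.symm.trans h)) (fun h => absurd (congrArg Fin.val h) (by norm_num))⟩
    · exact ⟨iff_of_true pv_mem rfl,
        iff_of_false (fun h => Bool.false_ne_true (hv1.symm.trans h)) (fun h => absurd (congrArg Fin.val h) (by norm_num))⟩
    · exact ⟨iff_of_false (fun h => Bool.false_ne_true (h44S.symm.trans h)) (fun h => absurd (congrArg Fin.val h) (by norm_num)),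
        iff_of_true h44 rfl⟩
  have move : ∀ M : ℕ, (∀ σ ∈ HH, ∀ x : Fin 1782, InM M x → InM M (σ x)) →
      ∀ (σ : ↥HH) (x : Fin 1782), InM M ((σ : PP) x) ↔ InM M x := by
    intro M hM σ x
    refine ⟨fun h => ?_, hM σ σ.2 x⟩
    have := hM _ (inv_mem σ.2) _ h
    rwa [inv_app] at this
  have sep : ∀ σ : ↥HH, ∀ i j : Fin 3, (σ : PP) (root i) = root j → i = j := by
    intro σ i j e
    have h1 := move maskS (fun σ hσ x hx => HH_invS hσ hx) σ (root i)
    have h2 := move _ hinv1 σ (root i)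
    rw [e, (key i).1, (key j).1] at h1
    rw [e, (key i).2, (key j).2] at h2
    fin_cases i <;> fin_cases j <;> simp at h1 h2 ⊢
  have stab : ∀ σ : ↥HH, ∀ i : Fin 3, (σ : PP) (root i) = root i → ψ σ (val i) = val i := by
    intro σ i e
    fin_cases i
    · exact S.fix σ
    · exact (hstb σ).2 (mem_JJ σ.2 e)
    · exact (hstc σ).2 e
  let φ : Fin 1782 → Ω := fun x => ψ (cover x).choose.1 (val (cover x).choose.2)
  have hφ : ∀ σ : ↥HH, ∀ i, φ ((σ : PP) (root i)) = ψ σ (val i) := by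
    intro σ i
    have e := (cover ((σ : PP) (root i))).choose_spec
    show ψ (cover ((σ : PP) (root i))).choose.1 (val (cover ((σ : PP) (root i))).choose.2) = _
    generalize (cover ((σ : PP) (root i))).choose = p at e
    obtain ⟨τ, j⟩ := p
    have e' : ((σ⁻¹ * τ : ↥HH) : PP) (root j) = root i := by
      rw [Subgroup.coe_mul, Subgroup.coe_inv, Equiv.Perm.mul_apply, e, inv_app]
    obtain rfl := sep _ _ _ e'
    have := stab _ _ e'
    rw [map_mul, map_inv, Equiv.Perm.mul_apply] at this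
    calc ψ τ (val j) = ψ σ ((ψ σ)⁻¹ (ψ τ (val j))) := ((ψ σ).apply_symm_apply _).symm
      _ = ψ σ (val j) := by rw [this]
  have surj : Function.Surjective φ := by
    intro w
    obtain ⟨-, -, -, hall⟩ := S.three hΩ hb hc
    rcases hall w with rfl | ⟨σ, rfl⟩ | ⟨σ, rfl⟩
    · exact ⟨_, (hφ 1 0).trans (by simp [val])⟩
    · exact ⟨_, hφ σ 1⟩
    · exact ⟨_, hφ σ 2⟩
  have bij : Function.Bijective φ :=
    (Fintype.bijective_iff_surjective_and_card φ).2 ⟨surj, by simp [hΩ]⟩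
  refine ⟨Equiv.ofBijective φ bij, fun σ x => ?_, ?_, ?_, ?_⟩
  · obtain ⟨⟨τ, i⟩, rfl⟩ := cover x
    show φ ((σ : PP) ((τ : PP) (root i))) = ψ σ (φ ((τ : PP) (root i)))
    rw [← Equiv.Perm.mul_apply, ← Subgroup.coe_mul, hφ, hφ, map_mul, Equiv.Perm.mul_apply]
  · exact (hφ 1 0).trans (by simp [val])
  · exact (hφ 1 1).trans (by simp [val])
  · exact (hφ 1 2).trans (by simp [val])

/-- Recognition of the Suzuki group as a rank 3 group on 1782 points. -/
theorem iso_suz {Ω : Type*} [Fintype Ω] [DecidableEq Ω] (hΩ : Fintype.card Ω = 1782)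
    (G : Subgroup (Equiv.Perm Ω)) [MulAction.IsPretransitive G Ω] (a : Ω)
    (e : ↥HH ≃* MulAction.stabilizer G a) (b c : Ω)
    (hb : (MulAction.orbit (MulAction.stabilizer G a) b).ncard = 416)
    (hc : (MulAction.orbit (MulAction.stabilizer G a) c).ncard = 1365) :
    Nonempty (G ≃* Cfsg.Spor.Suz) := by
  let ψ : ↥HH →* Equiv.Perm Ω := (G.subtype.comp (MulAction.stabilizer G a).subtype).comp e.toMonoidHom
  have S : Setup G a ψ :=
    { inj := fun σ τ h => e.injective (Subtype.ext (Subtype.ext h))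
      mem := fun σ => (e σ).1.2
      fix := fun σ => (e σ).2
      surj := fun g hg ha => ⟨e.symm ⟨⟨g, hg⟩, ha⟩, by simp [ψ]⟩
      trans := fun x => by
        obtain ⟨g, hg⟩ := MulAction.exists_smul_eq G a x
        exact ⟨g.1, g.2, hg⟩ }
  have horb : ∀ x, Orb ψ x = MulAction.orbit (MulAction.stabilizer G a) x := fun x => Set.ext fun y => by
    constructor
    · rintro ⟨σ, rfl⟩; exact ⟨e σ, rfl⟩
    · rintro ⟨g, rfl⟩
      refine ⟨e.symm g, ?_⟩
      show ((e (e.symm g) : G) : Equiv.Perm Ω) x = _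
      rw [e.apply_symm_apply]
      rfl
  rw [← horb] at hb hc
  obtain ⟨b', hbb, hst⟩ := exists_base hb
  rw [← hbb] at hb
  obtain ⟨f, hf0, hf, hfi, hfm, hfs⟩ := exists_fS hst
  obtain ⟨g, hg, hga, hgb, s, hs, hgC, hconj⟩ := exists_good_swap S hΩ hst hb hc hf0 hf hfi hfm hfs
  have h7 := P_mul_self (k := 7) (by norm_num)
  obtain ⟨y, hy, hyM, hys⟩ : ∃ y, InM (OJ 4) y ∧ (∀ σ ∈ M81, (s * σ * s) y = y) ∧
      ((s = 1 ∧ y = p81) ∨ (s = P 7 ∧ y = P 7 p44)) := by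
    rcases hs with rfl | rfl
    · exact ⟨p81, entries_data.2.2.2.2.2.2.2.1, fun σ hσ => by simpa using hσ.2, Or.inl ⟨rfl, rfl⟩⟩
    · refine ⟨P 7 p44, ?_, fun σ hσ => ?_, Or.inr ⟨rfl, rfl⟩⟩
      · rw [InM, P_val (by norm_num)]; exact oj_data.2.2.2.1
      · rw [Equiv.Perm.mul_apply, Equiv.Perm.mul_apply, show P 7 (P 7 p44) = p44 by
          rw [← Equiv.Perm.mul_apply, h7]; rfl, M81_fix44 hσ]
  obtain ⟨hcO, hstc⟩ := exists_far S hΩ hst hb hc hf0 hf hfi hfm hfs hg hga hgb hs hgC hconj hy hyM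
  rw [← Orb_eq hcO] at hc
  obtain ⟨Φ, hΦ, hΦ0, hΦv, hΦ44⟩ := exists_equiv S hΩ hb hc hst hstc
  have hΦf : ∀ x, InM maskS x → Φ x = f x := fun x hx => by
    obtain ⟨σ, hσ, rfl⟩ := HH_transS pv_mem hx
    rw [hΦ ⟨σ, hσ⟩, hΦv, hf ⟨σ, hσ⟩ pv pv_mem, hf0]
  let C : Equiv.Perm Ω →* PP := (Φ.symm.permCongrHom).toMonoidHom
  have hC : ∀ p x, C p x = Φ.symm (p (Φ x)) := fun p x => rfl
  have hCψ : ∀ σ : ↥HH, C (ψ σ) = σ := fun σ => Equiv.ext fun x => by
    rw [hC, ← hΦ, Φ.symm_apply_apply]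
  have hCinj : Function.Injective C := (Φ.symm.permCongrHom).injective
  let K : Subgroup PP := G.map C
  have hle : HH ≤ K := fun σ hσ => ⟨ψ ⟨σ, hσ⟩, S.mem _, hCψ ⟨σ, hσ⟩⟩
  have hstab : ∀ k ∈ K, k p0 = p0 → k ∈ HH := by
    rintro _ ⟨p, hp, rfl⟩ hk
    rw [hC, Equiv.symm_apply_eq, hΦ0] at hk
    obtain ⟨σ, rfl⟩ := S.surj p hp hk
    rw [hCψ]
    exact σ.2
  have hcard : Nat.card K = 448345497600 := by
    rw [Subgroup.card_map_of_injective hCinj, S.card_G hΩ]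
  have hyS : InM maskS y := maskS_cases.2 (Or.inr (Or.inr hy))
  have hgy : C g y = p44 := by
    rw [hC, Equiv.symm_apply_eq, hΦ44, hΦf y hyS]
  have hcomm : ∀ σ : PP, σ ∈ JJ → C g * σ = s * σ * s * C g := by
    intro σ hσ
    have hsJ : s * σ * s ∈ JJ := by
      rcases hs with rfl | rfl
      · simpa using hσ
      · exact conj7_mem hσ
    have := congrArg C (hconj ⟨σ, JJ_le hσ⟩ hσ ⟨_, JJ_le hsJ⟩ rfl)
    rwa [map_mul, map_mul, hCψ, hCψ] at this
  obtain ⟨iso⟩ := identify hle hstab hcard (g := C g) ⟨g, hg, rfl⟩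
    (by rw [hC, Equiv.symm_apply_eq, hΦ0, hΦv, hga]) (by rw [hC, Equiv.symm_apply_eq, hΦv, hΦ0, hgb]) (by
      rcases hys with ⟨rfl, rfl⟩ | ⟨rfl, rfl⟩
      · exact Or.inl ⟨fun σ hσ => by simpa using hcomm σ hσ, hgy⟩
      · exact Or.inr ⟨hcomm, hgy⟩)
  exact ⟨(G.equivMapOfInjective C hCinj).trans iso⟩

end CfsgLib.Recog.Suz1782
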