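import Cfsg.Agent.Lib.Recog.Suz1782.Defs
import Cfsg.Agent.Lib.Recog.Suz1782.DataGens
import Cfsg.Agent.Lib.Recog.Suz1782.DataSets
import Cfsg.Agent.Lib.InvChar.SporSuz

/-!
Kernel checks on the permutations of the 1782 points: agreement with the coset table, relations of
the swaps, and the orbits of the point stabiliser, the Hall-Janko subgroup and the stabiliser of 81.
-/

set_option autoImplicit false
set_option maxRecDepth 100000
set_option maxHeartbeats 0
set_option Elab.async false

namespace CfsgLib.Recog.Suz1782

open CfsgLib.Recog.McL275 (eagerN popN closesTo)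

/-- The letters of a swap `g₀`, the false swaps and the commuting involution. -/
def extraL : List ℕ := [7, 8, 9, 10, 11]

/-- The permutations. -/
noncomputable def basicOK : Bool :=
  okGens 1782 gensP && Nat.beq gensP.length 12 && okGens 100 gens100 && Nat.beq gens100.length 6

theorem basic_ok : basicOK = true := by decide +kernel

/-- Agreement with the coset table. -/
noncomputable def tableOK : Bool :=
  (List.range 7).all fun k => eagerN (letT gensP k) fun c =>
    (List.range 1782).all fun i => Nat.beq (pim c i) (CfsgLib.InvChar.Coset.SuzA.table.app i k)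

theorem table_ok : tableOK = true := by decide +kernel

/-- The relations of the extra permutations. -/
noncomputable def relOK : Bool :=
  ((List.range 5).all fun a =>
    eqWords 1782 gensP [7, a, 7] (dec (conjW.getD a 0)) && below 5 (dec (conjW.getD a 0)) &&
    eqWords 1782 gensP [8, a] [a, 8] && eqWords 1782 gensP [11, a] [a, 11]) &&
  eqWords 1782 gensP [9] [8, 11] && eqWords 1782 gensP [10] [7, 11] &&
  (extraL.all fun k => eqWords 1782 gensP [k, k] []) &&
  eqWords 1782 gensP [6] (dec wordG) && (dec wordG).all (fun k => Nat.blt k 6 || Nat.beq k 7) &&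
  Nat.beq (pim (letT gensP 7) 0) 995 && Nat.beq (pim (letT gensP 8) 0) 995 &&
  Nat.beq (pim (letT gensP 8) 81) 44 && Nat.beq (pim (letT gensP 8) 47) 47 &&
  Nat.beq (pim (letT gensP 11) 21) 437 &&
  [0, 995, 47, 81, 1].all (fun x => Nat.beq (pim (letT gensP 11) x) x)

theorem rel_ok : relOK = true := by decide +kernel

/-- A list of orbits is closed, invariant and covers the points of a set. -/
noncomputable def orbitsOK (step : ℕ → ℕ → ℕ → Bool) (img : ℕ → List ℕ)
    (all : ℕ) (L : List (ℕ × ℕ × ℕ × List (ℕ × ℕ × ℕ))) : Bool :=
  (L.all fun e => closesTo step e.2.2.2 e.1 e.2.2.1 && Nat.beq (popN 223 e.2.2.1) e.2.1 &&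
    e.2.2.1.testBit e.1 &&
    (List.range 1782).all fun x => !e.2.2.1.testBit x || (img x).all fun y => e.2.2.1.testBit y) &&
  Nat.beq (L.foldl (fun m e => m ||| e.2.2.1) 0) all &&
  Nat.beq ((L.map fun e => e.2.1).sum) (popN 223 all)

theorem orbH_ok : orbitsOK (stepL gensP 6) (fun x => (List.range 6).map fun k => pim (letT gensP k) x)
    (2 ^ 1782 - 1) orbH = true := by decide +kernel

theorem orbJ_ok : orbitsOK (stepL gensP 5) (fun x => (List.range 5).map fun k => pim (letT gensP k) x)
    (2 ^ 1782 - 1) orbJ = true := by decide +kernel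

/-- The words of the stabiliser of 81 use five letters and fix it. -/
noncomputable def wordsMOK : Bool :=
  wordM.all fun w => below 5 (dec w) && Nat.beq (actL gensP (dec w) 81) 81

theorem wordsM_ok : wordsMOK = true := by decide +kernel

theorem orbMS_ok : orbitsOK (stepW gensP wordM) (fun x => wordM.map fun w => actL gensP (dec w) x)
    maskS orbMS = true := by decide +kernel

/-- The two marked sets are those of the lists. -/
noncomputable def setsOK : Bool :=
  Nat.beq maskS (((orbH.getD 2 (0, 0, 0, [])).2.2.1)) && Nat.beq (popN 223 maskS) 416 &&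
  Nat.beq maskC (((orbJ.getD 3 (0, 0, 0, [])).2.2.1)) && Nat.beq (popN 223 maskC) 100 &&
  Nat.beq ((List.range 100).foldl (fun m i => m ||| (1 <<< pim ptsC i)) 0) maskC &&
  freshAll ((List.range 100).map (pim ptsC)) 0 &&
  Nat.beq ((List.range 416).foldl (fun m i => m ||| (1 <<< pim ptsS i)) 0) maskS &&
  freshAll ((List.range 416).map (pim ptsS)) 0

theorem sets_ok : setsOK = true := by decide +kernel

/-- The six generators on the 100 points are restrictions. -/
noncomputable def restrictOK : Bool :=
  (List.range 6).all fun k => eagerN (letT gensP (bif Nat.beq k 5 then 7 else k)) fun c =>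
    eagerN (letT gens100 k) fun d =>
      (List.range 100).all fun i => Nat.beq (pim c (pim ptsC i)) (pim ptsC (pim d i))

theorem restrict_ok : restrictOK = true := by decide +kernel

end CfsgLib.Recog.Suz1782
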