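import Cfsg.Agent.Lib.Recog.Suz1782.Defs
import Cfsg.Agent.Lib.Recog.Suz1782.DataGens
import Cfsg.Agent.Lib.Recog.Suz1782.DataWords
import Cfsg.Agent.Lib.Recog.Suz1782.DataA
import Cfsg.Agent.Lib.Recog.Suz1782.DataSets

/-!
Kernel checks: chains, fixed points of the small subgroups, the graph on 100 points, and the words
that refute the false swaps.
-/

set_option autoImplicit false
set_option maxRecDepth 100000
set_option maxHeartbeats 0
set_option Elab.async false

namespace CfsgLib.Recog.Suz1782

open CfsgLib.Recog.McL275 (eagerN popN baseBound distinctN)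

/-- The five generators of the Hall-Janko subgroup fix `0` and `995`, the sixth fixes `0`. -/
noncomputable def fixOK : Bool :=
  ((List.range 6).all fun k => Nat.beq (pim (letT gensP k) 0) 0) &&
  (List.range 5).all fun k => Nat.beq (pim (letT gensP k) 995) 995

theorem fix_ok : fixOK = true := by decide +kernel

theorem lvlJ_ok : lvlOK 1782 gensP 5 lvlJ [] = true := by decide +kernel

theorem lvlM_ok : lvlOK 1782 gensP 5 lvlM [81] = true := by decide +kernel

/-- The chain of the stabiliser of 81 uses its four generators. -/
theorem lvlH_ok : lvlOK 1782 gensP 6 lvlH [] = true := by decide +kernel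

theorem lvlF_ok : lvlOK 1782 gensP 6 lvlF [] = true := by decide +kernel

theorem lvlA_ok : lvlOK 100 gens100 6 lvlA [] = true := by decide +kernel

theorem lvlJ100_ok : lvlOK 100 gens100 5 lvlJ100 [] = true := by decide +kernel

theorem lvl_prods : lvlProd lvlJ = 604800 ∧ lvlProd lvlM = 1920 ∧ lvlProd lvlH = 251596800 ∧
    lvlProd lvlF * 3 = 251596800 ∧ lvlProd lvlA = 1209600 ∧ lvlProd lvlJ100 = 604800 ∧
    (lvlBase lvlJ).all (fun b => Nat.testBit maskC b) = true ∧
    (lvlBase lvlH).all (fun b => Nat.testBit maskS b) = true ∧
    (lvlBase lvlF).all (fun b => Nat.testBit maskS b) = true := by decide +kernel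

/-- Points fixed by all the words. -/
noncomputable def fixedBy (ws : List ℕ) (x : ℕ) : Bool :=
  ws.all fun w => Nat.beq (actL gensP (dec w) x) x

/-- The only points fixed in the orbits by the stabilisers of 81, 47 and 21. -/
noncomputable def fixedOK (orb21 orb1 orb81 : ℕ) : Bool :=
  (wordU.all fun w => below 5 (dec w) && Nat.beq (actL gensP (dec w) 47) 47) &&
  (wordW.all fun w => below 5 (dec w) && Nat.beq (actL gensP (dec w) 21) 21) &&
  ((List.range 1782).all fun x =>
    (!maskC.testBit x || !fixedBy wordU x || Nat.beq x 47) &&
    (!orb21.testBit x || !fixedBy wordW x || Nat.beq x 21 || Nat.beq x 437) &&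
    (!orb81.testBit x || !fixedBy wordM x || Nat.beq x 81) &&
    (!orb1.testBit x || !fixedBy wordM x || Nat.beq x 44))

theorem fixed_ok : fixedOK ((orbJ.getD 2 (0, 0, 0, [])).2.2.1) ((orbJ.getD 1 (0, 0, 0, [])).2.2.1)
    ((orbJ.getD 4 (0, 0, 0, [])).2.2.1) = true := by decide +kernel

/-- The false swaps are refuted: a word fixes 0 and leaves the suborbit, or fixes a base and moves a
point. -/
noncomputable def refuteOK : Bool :=
  (dec outT.1).all (fun k => Nat.blt k 6 || Nat.beq k 8) && Nat.beq (actL gensP (dec outT.1) 0) 0 &&
  maskS.testBit outT.2 && !maskS.testBit (actL gensP (dec outT.1) outT.2) &&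
  (dec outGE.1).all (fun k => Nat.blt k 6 || Nat.beq k 10) && Nat.beq (actL gensP (dec outGE.1) 0) 0 &&
  maskS.testBit outGE.2 && !maskS.testBit (actL gensP (dec outGE.1) outGE.2) &&
  (dec innerTE.1).all (fun k => Nat.blt k 6 || Nat.beq k 9) && Nat.beq (actL gensP (dec innerTE.1) 0) 0 &&
  (lvlBase lvlH).all (fun b => Nat.beq (actL gensP (dec innerTE.1) b) b) &&
  Nat.blt innerTE.2 1782 && !Nat.beq (actL gensP (dec innerTE.1) innerTE.2) innerTE.2

theorem refute_ok : refuteOK = true := by decide +kernel

/-- A row of the graph on the 100 points. -/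
noncomputable def rowC (i : ℕ) : ℕ := rowHJ.getD i 0

/-- The rows are the adjacencies carried from the base point. -/
noncomputable def rowsOK : Bool :=
  (List.range 100).all fun i => eagerN (repC.getD i 0) fun w =>
    below 6 (dec w) && Nat.beq (actL gensP (dec w) 995) (pim ptsC i) &&
    eagerN ((List.range 100).foldl (fun m j => m ||| (1 <<< actL gensP (dec w) (pim ptsC j))) 0) fun N =>
      eagerN (rowC i) fun r => (List.range 100).all fun j => r.testBit j == N.testBit (pim ptsC j)

theorem rows_ok : rowsOK = true := by decide +kernel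

/-- The base bounds the automorphisms. -/
noncomputable def autOK : Bool :=
  match baseBound rowC 100 baseHJ 0 with
  | some (p, M) => Nat.blt p (3 * 604800) &&
      distinctN (((List.range 100).filter fun y => !M.testBit y).map fun y => rowC y &&& M)
  | none => false

theorem aut_ok : autOK = true := by decide +kernel

/-- The six permutations preserve the graph. -/
noncomputable def autGensOK : Bool :=
  (List.range 6).all fun k => eagerN (letT gens100 k) fun c => (List.range 100).all fun i =>
    eagerN (rowC (pim c i)) fun r' => eagerN (rowC i) fun r =>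
      (List.range 100).all fun j => r'.testBit (pim c j) == r.testBit j

theorem autGens_ok : autGensOK = true := by decide +kernel

end CfsgLib.Recog.Suz1782
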