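import Cfsg.Agent.Lib.Recog.Suz1782.MasksTransA
import Cfsg.Agent.Lib.Recog.Suz1782.MasksTransB

/-!
Kernel checks for the subgroups of index 416: the element of order 3, the Sylow 5-subgroup, and the
products with a cycle of length 13.
-/

set_option autoImplicit false
set_option maxRecDepth 100000
set_option maxHeartbeats 0
set_option Elab.async false

namespace CfsgLib.Recog.Suz1782

open CfsgLib.Recog.McL275 (eagerN)
open CfsgLib.InvChar.Coset (Tr)

/-- The element of order 3 fixes exactly the first set; the element of order 7 fixes three points. -/
noncomputable def smallOK : Bool :=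
  below 6 (dec wordZ) && below 6 (dec wordX) &&
  eqWords 1782 gensP (dec wordZ ++ dec wordZ ++ dec wordZ) [] && !eqWords 1782 gensP (dec wordZ) [] &&
  ((List.range 1782).all fun x =>
    !maskS.testBit x || (Nat.beq (actL gensP (dec wordZ) x) x == (mask 0).testBit x)) &&
  eqWords 1782 gensP (List.flatten (List.replicate 7 (dec wordX))) [] && !eqWords 1782 gensP (dec wordX) [] &&
  Nat.beq (((List.range 1782).filter fun x => maskS.testBit x && Nat.beq (actL gensP (dec wordX) x) x).length) 3 &&
  (lvlBase lvlF).all fun b => (mask 0).testBit b

theorem small_ok : smallOK = true := by decide +kernel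

/-- An element of the Sylow 5-subgroup. -/
noncomputable def elE (m : ℕ) : List ℕ :=
  List.flatten (List.replicate (m / 5) (dec (wordE.getD 0 0))) ++
    List.flatten (List.replicate (m % 5) (dec (wordE.getD 1 0)))

/-- The Sylow 5-subgroup. -/
noncomputable def sylowOK : Bool :=
  below 5 (dec (wordE.getD 0 0)) && below 5 (dec (wordE.getD 1 0)) &&
  eqWords 1782 gensP (dec (wordE.getD 0 0) ++ dec (wordE.getD 1 0)) (dec (wordE.getD 1 0) ++ dec (wordE.getD 0 0)) &&
  eqWords 1782 gensP (List.flatten (List.replicate 5 (dec (wordE.getD 0 0)))) [] &&
  eqWords 1782 gensP (List.flatten (List.replicate 5 (dec (wordE.getD 1 0)))) [] &&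
  ((List.range 1782).any fun x => freshAll ((List.range 25).map fun m => actL gensP (elE m) x) 0) &&
  ((List.range 1782).all fun x =>
    !maskS.testBit x || Nat.beq x 995 || !(List.range 25).all fun m => Nat.beq (actL gensP (elE m) x) x) &&
  wordN.all fun w => below 5 (dec w) && [0, 1].all fun a => (List.range 25).any fun m =>
    eqWords 1782 gensP ((dec w).reverse ++ dec (wordE.getD a 0) ++ dec w) (elE m)

theorem sylow_ok : sylowOK = true := by decide +kernel

/-- A set at 995 meets few of its translates. -/
noncomputable def fewOK : Bool :=
  (List.range 2080).all fun i => eagerN (mask i) fun M => !M.testBit 995 ||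
    Nat.ble (((ptsF i).filter fun p => (List.range 25).all fun m => M.testBit (actL gensP (elE m) p)).length) 6

theorem few_ok : fewOK = true := by decide +kernel

/-- The letters of a conjugate of the element of order 3, its square, and the Sylow 5-subgroup. -/
noncomputable def itemW (zw : List ℕ) (t : ℕ) : List ℕ :=
  bif Nat.beq t 0 then zw else bif Nat.beq t 1 then zw ++ zw else elE (t - 1)

/-- The word of the conjugate at a representative. -/
noncomputable def repZ (c : ℕ) : List ℕ := dec c ++ dec wordZ ++ (dec c).reverse

/-- Steps along the normaliser. -/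
noncomputable def stepN (y k z : ℕ) : Bool :=
  Nat.blt k wordN.length && Nat.blt z 2080 && eagerN (permN.getD k 0) fun c => eagerN (mask z) fun M =>
    (ptsF y).all fun q => M.testBit (pim c q)

/-- The tables of the normalising elements are those of their words. -/
noncomputable def permNOK : Bool :=
  (List.range wordN.length).all fun k => eagerN (permN.getD k 0) fun c => eagerN (wordN.getD k 0) fun w =>
    (List.range 1782).all fun i => Nat.beq (pim c i) (actL gensP (dec w) i)

theorem permN_ok : permNOK = true := by decide +kernel

/-- Every set moving 995 is reached from a representative whose products contain an element with a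
cycle of length 13. -/
noncomputable def orbitsNOK : Bool :=
  (repOrbits.all fun e => Nat.blt e.1 2080 && below 6 (dec e.2.1) &&
    ((lvlBase lvlF).all fun b => (mask e.1).testBit (actL gensP (dec e.2.1) b)) &&
    (e.2.2.1.all fun t => Nat.ble t 25) &&
    eagerN e.2.2.2.1 fun p => Nat.blt p 1782 &&
      let w := (e.2.2.1.map (itemW (repZ e.2.1))).flatten
      !Nat.beq (actL gensP w p) p &&
      Nat.beq (Nat.rec (motive := fun _ => ℕ) p (fun _ ih => eagerN ih fun q => actL gensP w q) 13) p) &&
  (eagerN (repOrbits.foldl (fun m e => m |||
      ((McL275.closeUp stepN e.2.2.2.2 (1 <<< e.1)).getD 0)) 0) fun all =>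
    (List.range 2080).all fun i => all.testBit i || (mask i).testBit 995)

theorem orbitsN_ok : orbitsNOK = true := by decide +kernel

end CfsgLib.Recog.Suz1782
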