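import Cfsg.Agent.Lib.Recog.McL275.Check
import Mathlib.GroupTheory.Perm.Basic

/-!
Permutations given by packed tables of eleven-bit entries, words packed four bits to a letter, and
the checks used for a rank 3 group on 1782 points, with their soundness.
-/

set_option autoImplicit false

namespace CfsgLib.Recog.Suz1782

open CfsgLib.Recog.McL275 (eagerN eagerN_eq)

variable {n : ℕ}

/-- An entry of a packed table. -/
def pim (c i : ℕ) : ℕ := Nat.land (Nat.shiftRight c (11 * i)) 2047

/-- The set of images of the first `k` points. -/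
noncomputable def imgM (c k : ℕ) : ℕ :=
  Nat.rec (motive := fun _ => ℕ) 0 (fun j ih => Nat.lor (Nat.shiftLeft 1 (pim c j)) ih) k

theorem testBit_imgM {c j : ℕ} : ∀ {k : ℕ},
    (imgM c k).testBit j = true ↔ ∃ i < k, pim c i = j
  | 0 => by simp [imgM]
  | k + 1 => by
    show ((1 <<< pim c k) ||| imgM c k).testBit j = true ↔ _
    rw [Nat.testBit_or, Nat.one_shiftLeft, Nat.testBit_two_pow, Bool.or_eq_true, decide_eq_true_iff,
      testBit_imgM (k := k)]
    constructor
    · rintro (h | ⟨i, hi, h⟩)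
      · exact ⟨k, by omega, h⟩
      · exact ⟨i, by omega, h⟩
    · rintro ⟨i, hi, h⟩
      rcases Nat.lt_succ_iff_lt_or_eq.1 hi with hi | rfl
      · exact Or.inr ⟨i, hi, h⟩
      · exact Or.inl h

/-- The images of the points are exactly the points. -/
noncomputable def okPerm (n c : ℕ) : Bool := Nat.beq (imgM c n) (2 ^ n - 1)

theorem okPerm_lt {c : ℕ} (h : okPerm n c = true) {i : ℕ} (hi : i < n) : pim c i < n := by
  have e : imgM c n = 2 ^ n - 1 := Nat.eq_of_beq_eq_true h
  have := (testBit_imgM (c := c) (j := pim c i) (k := n)).2 ⟨i, hi, rfl⟩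
  rw [e, Nat.testBit_two_pow_sub_one] at this
  exact of_decide_eq_true this

/-- The map of a table. -/
def mapT (n c : ℕ) (i : Fin n) : Fin n :=
  ⟨pim c i % n, Nat.mod_lt _ (lt_of_le_of_lt (Nat.zero_le _) i.2)⟩

theorem mapT_bijective {c : ℕ} (h : okPerm n c = true) : Function.Bijective (mapT n c) := by
  refine Finite.surjective_iff_bijective.1 fun j => ?_
  have e : imgM c n = 2 ^ n - 1 := Nat.eq_of_beq_eq_true h
  have : (imgM c n).testBit j = true := by
    rw [e, Nat.testBit_two_pow_sub_one]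
    exact decide_eq_true j.2
  obtain ⟨i, hi, e'⟩ := testBit_imgM.1 this
  exact ⟨⟨i, hi⟩, Fin.ext (by simp [mapT, e', Nat.mod_eq_of_lt j.2])⟩

/-- The permutation of a table. -/
noncomputable def permT (n c : ℕ) : Equiv.Perm (Fin n) :=
  if h : okPerm n c = true then Equiv.ofBijective _ (mapT_bijective h) else 1

theorem permT_val {c : ℕ} (h : okPerm n c = true) (i : Fin n) :
    ((permT n c i : Fin n) : ℕ) = pim c i := by
  simp [permT, h, mapT, Nat.mod_eq_of_lt (okPerm_lt h i.2)]

/-! ### Words -/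

/-- The letters of a packed word. -/
noncomputable def dec (w : ℕ) : List ℕ :=
  Nat.rec (motive := fun _ => ℕ → List ℕ) (fun _ => [])
    (fun _ f w => bif Nat.beq w 0 then [] else (w % 16 - 1) :: f (w / 16)) 512 w

/-- The table of a letter. -/
noncomputable def letT (gs : List ℕ) (k : ℕ) : ℕ := gs.getD k 0

/-- A word applied to a point. -/
noncomputable def actL (gs : List ℕ) (L : List ℕ) (i : ℕ) : ℕ :=
  List.rec (motive := fun _ => ℕ) i (fun k _ ih => eagerN ih fun j => pim (letT gs k) j) L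

/-- The permutation of a word. -/
noncomputable def permL (n : ℕ) (gs : List ℕ) (L : List ℕ) : Equiv.Perm (Fin n) :=
  (L.map fun k => permT n (letT gs k)).prod

theorem permL_nil (gs : List ℕ) : permL n gs [] = 1 := rfl

theorem permL_cons (gs : List ℕ) (k : ℕ) (L : List ℕ) :
    permL n gs (k :: L) = permT n (letT gs k) * permL n gs L := rfl

theorem permL_single (gs : List ℕ) (k : ℕ) : permL n gs [k] = permT n (letT gs k) :=
  mul_one _

theorem permL_append (gs : List ℕ) (L L' : List ℕ) :
    permL n gs (L ++ L') = permL n gs L * permL n gs L' := by simp [permL]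

/-- The letters below `m` are permutations. -/
noncomputable def okGens (n : ℕ) (gs : List ℕ) : Bool := gs.all (okPerm n)

theorem okGens_let {gs : List ℕ} (h : okGens n gs = true) {k : ℕ} (hk : k < gs.length) :
    okPerm n (letT gs k) = true := by
  rw [letT, List.getD_eq_getElem _ _ hk]
  exact List.all_eq_true.1 h _ (List.getElem_mem _)

theorem permL_val {gs : List ℕ} (h : okGens n gs = true) :
    ∀ {L : List ℕ}, (∀ k ∈ L, k < gs.length) → ∀ i : Fin n,
      ((permL n gs L i : Fin n) : ℕ) = actL gs L i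
  | [], _, _ => rfl
  | k :: L, hL, i => by
    have ih := permL_val h (L := L) (fun x hx => hL x (List.mem_cons_of_mem _ hx)) i
    show ((permT n (letT gs k) (permL n gs L i) : Fin n) : ℕ) = eagerN (actL gs L i) fun j => pim (letT gs k) j
    rw [permT_val (okGens_let h (hL k (List.mem_cons_self ..))), ih, eagerN_eq]

/-- The letters are below `m`. -/
noncomputable def below (m : ℕ) (L : List ℕ) : Bool := L.all fun k => Nat.blt k m

theorem below_iff {m : ℕ} {L : List ℕ} : below m L = true ↔ ∀ k ∈ L, k < m := by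
  simp [below, List.all_eq_true, Nat.blt_eq]

/-- A word in letters below `m` lies in a subgroup containing those letters. -/
theorem permL_mem {gs : List ℕ} {K : Subgroup (Equiv.Perm (Fin n))} {m : ℕ}
    (hK : ∀ k < m, permT n (letT gs k) ∈ K) : ∀ {L : List ℕ}, (∀ k ∈ L, k < m) → permL n gs L ∈ K
  | [], _ => one_mem _
  | k :: L, h => mul_mem (hK k (h k (List.mem_cons_self ..)))
      (permL_mem hK fun x hx => h x (List.mem_cons_of_mem _ hx))

/-- Two words act alike on the first `n` points. -/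
noncomputable def eqWords (n : ℕ) (gs : List ℕ) (L L' : List ℕ) : Bool :=
  (List.range n).all fun i => Nat.beq (actL gs L i) (actL gs L' i)

theorem eqWords_sound {gs : List ℕ} (hg : okGens n gs = true) {L L' : List ℕ}
    (hL : ∀ k ∈ L, k < gs.length) (hL' : ∀ k ∈ L', k < gs.length) (h : eqWords n gs L L' = true) :
    permL n gs L = permL n gs L' := by
  refine Equiv.ext fun i => Fin.ext ?_
  rw [permL_val hg hL, permL_val hg hL']
  exact Nat.eq_of_beq_eq_true (List.all_eq_true.1 h i (List.mem_range.2 i.2))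

/-! ### Chains -/

/-- The points in a list are different. -/
noncomputable def freshAll (L : List ℕ) (m : ℕ) : Bool :=
  List.rec (motive := fun _ => ℕ → Bool) (fun _ => true)
    (fun y _ f m => !m.testBit y && eagerN (m ||| (1 <<< y)) f) L m

theorem freshAll_sound : ∀ {L : List ℕ} {m : ℕ}, freshAll L m = true →
    L.Nodup ∧ ∀ y ∈ L, m.testBit y = false
  | [], _, _ => ⟨List.nodup_nil, fun _ h => absurd h List.not_mem_nil⟩
  | y :: L, m, h => by
    replace h : (!m.testBit y && eagerN (m ||| (1 <<< y)) fun m => freshAll L m) = true := h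
    rw [eagerN_eq, Bool.and_eq_true, Bool.not_eq_true'] at h
    obtain ⟨h1, h2⟩ := freshAll_sound h.2
    refine ⟨List.nodup_cons.2 ⟨fun hy => ?_, h1⟩, fun z hz => ?_⟩
    · have := h2 y hy
      simp [Nat.testBit_or, Nat.one_shiftLeft] at this
    · rcases List.mem_cons.1 hz with rfl | hz
      · exact h.1
      · have := h2 z hz
        rw [Nat.testBit_or, Bool.or_eq_false_iff] at this
        exact this.1

/-- Each level: words fixing the earlier points with different images of the next one. -/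
noncomputable def lvlOK (n : ℕ) (gs : List ℕ) (m : ℕ) (L : List (ℕ × List ℕ)) (pre : List ℕ) : Bool :=
  List.rec (motive := fun _ => List ℕ → Bool) (fun _ => true)
    (fun e _ f pre => Nat.blt e.1 n &&
      (e.2.all fun w => below m (dec w) && pre.all fun a => Nat.beq (actL gs (dec w) a) a) &&
      freshAll (e.2.map fun w => actL gs (dec w) e.1) 0 && f (e.1 :: pre)) L pre

/-- The product of the lengths. -/
def lvlProd : List (ℕ × List ℕ) → ℕ
  | [] => 1
  | (_, T) :: L => T.length * lvlProd L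

/-- The points of a chain. -/
def lvlBase (L : List (ℕ × List ℕ)) : List ℕ := L.map Prod.fst

/-- A chain in a subgroup: its product times the order of the stabiliser of its points is at most the
order. -/
theorem lvl_card {gs : List ℕ} (hg : okGens n gs = true) {m : ℕ} (hm : m ≤ gs.length)
    {K : Subgroup (Equiv.Perm (Fin n))} (hK : ∀ k < m, permT n (letT gs k) ∈ K) :
    ∀ {L : List (ℕ × List ℕ)} {pre : List ℕ}, lvlOK n gs m L pre = true →
      ∀ H : Subgroup (Equiv.Perm (Fin n)),
      (∀ σ, σ ∈ H ↔ σ ∈ K ∧ ∀ a ∈ pre, ∀ h : a < n, σ ⟨a, h⟩ = ⟨a, h⟩) →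
      ∃ H' : Subgroup (Equiv.Perm (Fin n)),
        (∀ σ, σ ∈ H' ↔ σ ∈ K ∧ ∀ a, (a ∈ pre ∨ a ∈ lvlBase L) → ∀ h : a < n, σ ⟨a, h⟩ = ⟨a, h⟩) ∧
        lvlProd L * Nat.card H' ≤ Nat.card H
  | [], pre, _, H, hH => ⟨H, fun σ => by simpa [lvlBase] using hH σ, by simp [lvlProd]⟩
  | (b, T) :: L, pre, h, H, hH => by
    replace h : (Nat.blt b n &&
      (T.all fun w => below m (dec w) && pre.all fun a => Nat.beq (actL gs (dec w) a) a) &&
      freshAll (T.map fun w => actL gs (dec w) b) 0 && lvlOK n gs m L (b :: pre)) = true := h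
    simp only [Bool.and_eq_true, Nat.blt_eq, List.all_eq_true] at h
    obtain ⟨⟨⟨hb, hT⟩, hd⟩, hL⟩ := h
    let H1 : Subgroup (Equiv.Perm (Fin n)) :=
      H ⊓ MulAction.stabilizer (Equiv.Perm (Fin n)) (⟨b, hb⟩ : Fin n)
    obtain ⟨H', hH', hle⟩ := lvl_card hg hm hK hL H1 (fun σ => by
      rw [Subgroup.mem_inf, hH, MulAction.mem_stabilizer_iff]
      constructor
      · rintro ⟨⟨h1, h2⟩, h3⟩
        refine ⟨h1, fun a ha hlt => ?_⟩
        rcases List.mem_cons.1 ha with rfl | ha
        · exact h3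
        · exact h2 a ha hlt
      · rintro ⟨h1, h2⟩
        exact ⟨⟨h1, fun a ha => h2 a (List.mem_cons_of_mem _ ha)⟩, h2 b (List.mem_cons_self ..) hb⟩)
    refine ⟨H', fun σ => (hH' σ).trans ?_, ?_⟩
    · simp only [lvlBase, List.map_cons, List.mem_cons]
      constructor
      · rintro ⟨h1, h2⟩
        exact ⟨h1, fun a ha => h2 a (by tauto)⟩
      · rintro ⟨h1, h2⟩
        exact ⟨h1, fun a ha => h2 a (by tauto)⟩
    have hlet : ∀ i : Fin T.length, ∀ k ∈ dec T[i], k < m := fun i =>
      below_iff.1 (hT _ (List.getElem_mem _)).1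
    have hmem : ∀ i : Fin T.length, permL n gs (dec T[i]) ∈ H := fun i => by
      refine (hH _).2 ⟨permL_mem hK (hlet i), fun a ha hlt => Fin.ext ?_⟩
      rw [permL_val hg (fun k hk => lt_of_lt_of_le (hlet i k hk) hm)]
      exact Nat.eq_of_beq_eq_true ((hT _ (List.getElem_mem _)).2 a ha)
    let f : Fin T.length × H1 → H := fun p =>
      ⟨permL n gs (dec T[p.1]) * p.2, mul_mem (hmem p.1) (Subgroup.mem_inf.1 p.2.2).1⟩
    have hf : Function.Injective f := by
      rintro ⟨i, x⟩ ⟨j, y⟩ e
      have e' : permL n gs (dec T[i]) * x = permL n gs (dec T[j]) * y := congrArg Subtype.val e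
      have hx : (x : Equiv.Perm (Fin n)) ⟨b, hb⟩ = ⟨b, hb⟩ := (Subgroup.mem_inf.1 x.2).2
      have hy : (y : Equiv.Perm (Fin n)) ⟨b, hb⟩ = ⟨b, hb⟩ := (Subgroup.mem_inf.1 y.2).2
      have := congrArg (fun σ : Equiv.Perm (Fin n) => ((σ ⟨b, hb⟩ : Fin n) : ℕ)) e'
      simp only [Equiv.Perm.mul_apply, hx, hy] at this
      rw [permL_val hg (fun k hk => lt_of_lt_of_le (hlet i k hk) hm),
        permL_val hg (fun k hk => lt_of_lt_of_le (hlet j k hk) hm)] at this
      have hnd := (freshAll_sound hd).1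
      have hij : i = j := Fin.ext ((hnd.getElem_inj_iff (i := i.val) (j := j.val)
        (hi := by rw [List.length_map]; exact i.2) (hj := by rw [List.length_map]; exact j.2)).1 (by
          simpa using this))
      subst hij
      exact Prod.ext rfl (Subtype.ext (mul_left_cancel e'))
    have hc := Nat.card_le_card_of_injective f hf
    rw [Nat.card_prod, Nat.card_fin] at hc
    rw [lvlProd, mul_assoc]
    exact le_trans (Nat.mul_le_mul_left _ hle) hc

/-- A chain bounds the order of a subgroup from below, and of the stabiliser of its points from above. -/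
theorem lvl_bound {gs : List ℕ} (hg : okGens n gs = true) {m : ℕ} (hm : m ≤ gs.length)
    {K : Subgroup (Equiv.Perm (Fin n))} (hK : ∀ k < m, permT n (letT gs k) ∈ K)
    {L : List (ℕ × List ℕ)} (h : lvlOK n gs m L [] = true) :
    ∃ H' : Subgroup (Equiv.Perm (Fin n)),
      (∀ σ, σ ∈ H' ↔ σ ∈ K ∧ ∀ a ∈ lvlBase L, ∀ h : a < n, σ ⟨a, h⟩ = ⟨a, h⟩) ∧
      lvlProd L * Nat.card H' ≤ Nat.card K := by
  obtain ⟨H', h1, h2⟩ := lvl_card hg hm hK h K fun σ => by simp
  exact ⟨H', fun σ => (h1 σ).trans (by simp), h2⟩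

theorem lvl_le {gs : List ℕ} (hg : okGens n gs = true) {m : ℕ} (hm : m ≤ gs.length)
    {K : Subgroup (Equiv.Perm (Fin n))} (hK : ∀ k < m, permT n (letT gs k) ∈ K)
    {L : List (ℕ × List ℕ)} (h : lvlOK n gs m L [] = true) : lvlProd L ≤ Nat.card K := by
  obtain ⟨H', -, h2⟩ := lvl_bound hg hm hK h
  exact le_trans (Nat.le_mul_of_pos_right _ Nat.card_pos) h2

/-- With a full chain the stabiliser of its points is trivial. -/
theorem lvl_faithful {gs : List ℕ} (hg : okGens n gs = true) {m : ℕ} (hm : m ≤ gs.length)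
    {K : Subgroup (Equiv.Perm (Fin n))} (hK : ∀ k < m, permT n (letT gs k) ∈ K)
    {L : List (ℕ × List ℕ)} (h : lvlOK n gs m L [] = true) (hc : Nat.card K ≤ lvlProd L)
    {σ : Equiv.Perm (Fin n)} (hσ : σ ∈ K) (hfix : ∀ a ∈ lvlBase L, ∀ h : a < n, σ ⟨a, h⟩ = ⟨a, h⟩) :
    σ = 1 := by
  obtain ⟨H', h1, h2⟩ := lvl_bound hg hm hK h
  have hp : 0 < Nat.card K := Nat.card_pos
  have : Nat.card H' ≤ 1 := Nat.le_of_mul_le_mul_left (by omega : lvlProd L * Nat.card H' ≤ lvlProd L * 1) (by omega)
  have hbot : H' = ⊥ := Subgroup.card_eq_one.1 (le_antisymm this Nat.card_pos)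
  exact Subgroup.mem_bot.1 (hbot ▸ (h1 σ).2 ⟨hσ, hfix⟩)

/-! ### Steps -/

/-- A step along a word. -/
noncomputable def stepW (gs : List ℕ) (ws : List ℕ) (x k y : ℕ) : Bool :=
  Nat.blt k ws.length && Nat.beq (actL gs (dec (ws.getD k 0)) x) y

/-- A step along a letter. -/
noncomputable def stepL (gs : List ℕ) (m : ℕ) (x k y : ℕ) : Bool :=
  Nat.blt k m && Nat.beq (pim (letT gs k) x) y

end CfsgLib.Recog.Suz1782
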