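import Cfsg.Agent.Lib.Recog.Suz1782.Subgroups

/-!
The identification: a group of the right order containing the point stabiliser with a swap acting on
the Hall-Janko subgroup as one of the two known ones is the Suzuki group.
-/

set_option autoImplicit false
set_option maxRecDepth 100000

namespace CfsgLib.Recog.Suz1782

open CfsgLib.InvChar CfsgLib.InvChar.Coset CfsgLib.Recog.McL275

/-- The point 21. -/
def p21 : Fin 1782 := ⟨21, by norm_num⟩

/-- The point 437. -/
def p437 : Fin 1782 := ⟨437, by norm_num⟩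

/-- The marked orbit of an index. -/
noncomputable def OJ (i : ℕ) : ℕ := (entry orbJ i).2.2.1

theorem oj_data :
    ((List.range 1782).all fun x => Nat.beq x 0 || Nat.beq x 995 || (OJ 1).testBit x || (OJ 2).testBit x ||
      (OJ 3).testBit x || (OJ 4).testBit x) = true ∧
    (OJ 1).testBit 44 = true ∧ (OJ 2).testBit 21 = true ∧
    (OJ 4).testBit (pim (letT gensP 7) 44) = true ∧ OJ 1 &&& OJ 4 = 0 ∧
    (entry orbJ 0).2.1 = 1 ∧ (entry orbJ 5).2.1 = 1 ∧
    (OJ 0).testBit 0 = true ∧ (OJ 5).testBit 995 = true := by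
  refine ⟨?_, ?_, ?_, ?_, ?_, ?_, ?_, ?_, ?_⟩ <;> decide +kernel

theorem oj_cases (x : Fin 1782) :
    x = p0 ∨ x = pv ∨ InM (OJ 1) x ∨ InM (OJ 2) x ∨ InM (OJ 3) x ∨ InM (OJ 4) x := by
  have h := List.all_eq_true.1 oj_data.1 x (List.mem_range.2 x.2)
  simp only [Bool.or_eq_true] at h
  rcases h with ((((h | h) | h) | h) | h) | h
  · exact Or.inl (Fin.ext (Nat.eq_of_beq_eq_true h))
  · exact Or.inr (Or.inl (Fin.ext (Nat.eq_of_beq_eq_true h)))
  all_goals tauto

theorem card_orb_OJ {i : ℕ} (hi : i < 6) {x : Fin 1782} (hx : InM (OJ i) x) :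
    (orbF JJ x).card = (entry orbJ i).2.1 := by
  obtain ⟨hc, hinv, htr, -⟩ := orbJ_spec hi
  rw [orbF_eq hinv htr hx, ← hc]
  rfl

theorem card_orb_map {q : PP} (hc : ∀ σ ∈ JJ, q * σ = σ * q) (x : Fin 1782) :
    (orbF JJ (q x)).card = (orbF JJ x).card := by
  rw [← Finset.card_image_of_injective (orbF JJ x) q.injective]
  refine congrArg Finset.card (Finset.ext fun y => ?_)
  simp only [mem_orbF, Finset.mem_image]
  constructor
  · rintro ⟨σ, hσ, rfl⟩
    exact ⟨σ x, ⟨σ, hσ, rfl⟩, by rw [← Equiv.Perm.mul_apply, hc σ hσ, Equiv.Perm.mul_apply]⟩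
  · rintro ⟨-, ⟨σ, hσ, rfl⟩, rfl⟩
    exact ⟨σ, hσ, by rw [← Equiv.Perm.mul_apply, ← hc σ hσ, Equiv.Perm.mul_apply]⟩

/-- A commuting permutation fixes the orbit of a point it fixes. -/
theorem fix_orbit {q : PP} (hc : ∀ σ ∈ JJ, q * σ = σ * q) {i : ℕ} (hi : i < 6) {x y : Fin 1782}
    (hx : InM (OJ i) x) (hy : InM (OJ i) y) (hq : q x = x) : q y = y := by
  obtain ⟨σ, hσ, rfl⟩ := (orbJ_spec hi).2.2.1 x y hx hy
  rw [← Equiv.Perm.mul_apply, hc σ hσ, Equiv.Perm.mul_apply, hq]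

theorem fixed_spec {x : Fin 1782} :
    ((∀ w ∈ wordU, W (dec w) x = x) → InM (OJ 3) x → x = p47) ∧
    ((∀ w ∈ wordW, W (dec w) x = x) → InM (OJ 2) x → x = p21 ∨ x = p437) ∧
    ((∀ w ∈ wordM, W (dec w) x = x) → InM (OJ 1) x → x = p44) := by
  have h := fixed_ok
  simp only [fixedOK, Bool.and_eq_true, List.all_eq_true, List.mem_range, Bool.or_eq_true,
    Bool.not_eq_true'] at h
  obtain ⟨⟨hU, hW⟩, hx⟩ := h
  obtain ⟨⟨⟨h1, h2⟩, -⟩, h4⟩ := hx x x.2
  have key : ∀ ws : List ℕ, (∀ w ∈ ws, ∀ k ∈ dec w, k < 12) → (∀ w ∈ ws, W (dec w) x = x) →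
      fixedBy ws x = true := fun ws hb hf => by
    refine List.all_eq_true.2 fun w hw => ?_
    rw [← W_val (hb w hw), hf w hw]
    exact Nat.beq_refl _
  have bU : ∀ w ∈ wordU, ∀ k ∈ dec w, k < 12 := fun w hw k hk =>
    Nat.lt_trans (below_iff.1 (hU w hw).1 k hk) (by norm_num)
  have bW : ∀ w ∈ wordW, ∀ k ∈ dec w, k < 12 := fun w hw k hk =>
    Nat.lt_trans (below_iff.1 (hW w hw).1 k hk) (by norm_num)
  refine ⟨fun hf hm => ?_, fun hf hm => ?_, fun hf hm => ?_⟩
  · rw [InM, OJ, maskS_eq.2] at hm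
    rcases h1 with (h1 | h1) | h1
    · rw [hm] at h1; exact absurd h1 (by simp)
    · rw [key _ bU hf] at h1; exact absurd h1 (by simp)
    · exact Fin.ext (Nat.eq_of_beq_eq_true h1)
  · rcases h2 with ((h2 | h2) | h2) | h2
    · exact absurd (hm.symm.trans h2) (by simp)
    · rw [key _ bW hf] at h2; exact absurd h2 (by simp)
    · exact Or.inl (Fin.ext (Nat.eq_of_beq_eq_true h2))
    · exact Or.inr (Fin.ext (Nat.eq_of_beq_eq_true h2))
  · rcases h4 with (h4 | h4) | h4
    · exact absurd (hm.symm.trans h4) (by simp)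
    · rw [key _ (fun w hw => (wordM_mem hw).1) hf] at h4; exact absurd h4 (by simp)
    · exact Fin.ext (Nat.eq_of_beq_eq_true h4)

theorem wordU_mem {w : ℕ} (hw : w ∈ wordU) : W (dec w) ∈ JJ ∧ W (dec w) p47 = p47 := by
  have h := fixed_ok
  simp only [fixedOK, Bool.and_eq_true, List.all_eq_true] at h
  obtain ⟨hb, hf⟩ := h.1.1 w hw
  have hb' := below_iff.1 hb
  refine ⟨W_mem hb', Fin.ext ?_⟩
  rw [W_val fun k hk => Nat.lt_trans (hb' k hk) (by norm_num)]
  exact Nat.eq_of_beq_eq_true hf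

theorem wordW_mem {w : ℕ} (hw : w ∈ wordW) : W (dec w) ∈ JJ ∧ W (dec w) p21 = p21 := by
  have h := fixed_ok
  simp only [fixedOK, Bool.and_eq_true, List.all_eq_true] at h
  obtain ⟨hb, hf⟩ := h.1.2 w hw
  have hb' := below_iff.1 hb
  refine ⟨W_mem hb', Fin.ext ?_⟩
  rw [W_val fun k hk => Nat.lt_trans (hb' k hk) (by norm_num)]
  exact Nat.eq_of_beq_eq_true hf

theorem orb_sizes : (entry orbJ 1).2.1 = 315 ∧ (entry orbJ 2).2.1 = 1050 ∧ (entry orbJ 3).2.1 = 100 ∧
    (entry orbJ 4).2.1 = 315 :=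
  ⟨entries_data.2.2.2.1, entries_data.2.2.2.2.1, entries_data.2.2.2.2.2.1, entries_data.2.2.1⟩

theorem image_orbit {q : PP} (hc : ∀ σ ∈ JJ, q * σ = σ * q) {i : ℕ} (hi : i < 6) {x : Fin 1782}
    (hx : InM (OJ i) x) : (i = 2 → InM (OJ 2) (q x)) ∧ (i = 3 → InM (OJ 3) (q x)) ∧
      (i = 1 → InM (OJ 1) (q x) ∨ InM (OJ 4) (q x)) := by
  have h := (card_orb_map hc x).trans (card_orb_OJ hi hx)
  have h0 : q x = p0 → (entry orbJ i).2.1 = 1 := fun e => by
    rw [← h, e, card_orb_OJ (i := 0) (by norm_num) (x := p0) oj_data.2.2.2.2.2.2.2.1]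
    exact oj_data.2.2.2.2.2.1
  have hv : q x = pv → (entry orbJ i).2.1 = 1 := fun e => by
    rw [← h, e, card_orb_OJ (i := 5) (by norm_num) (x := pv) oj_data.2.2.2.2.2.2.2.2]
    exact oj_data.2.2.2.2.2.2.1
  obtain ⟨s1, s2, s3, s4⟩ := orb_sizes
  have hj : ∀ j, j < 6 → InM (OJ j) (q x) → (entry orbJ j).2.1 = (entry orbJ i).2.1 := fun j hj hm =>
    (card_orb_OJ hj hm).symm.trans h
  refine ⟨?_, ?_, ?_⟩ <;> rintro rfl <;> rcases oj_cases (q x) with e | e | e | e | e | e
  all_goals first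
    | exact e
    | exact Or.inl e
    | exact Or.inr e
    | (have := h0 e; omega)
    | (have := hv e; omega)
    | (have := hj _ (by norm_num) e; omega)

/-- A permutation commuting with the Hall-Janko subgroup and fixing four points is trivial. -/
theorem comm_eq_one {q : PP} (hc : ∀ σ ∈ JJ, q * σ = σ * q) (h0 : q p0 = p0) (hv : q pv = pv)
    (h81 : q p81 = p81) (h21 : q p21 = p21) : q = 1 := by
  obtain ⟨hp44, hp21, -⟩ := oj_data.2
  have hp81 : InM (OJ 4) p81 := entries_data.2.2.2.2.2.2.2.1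
  have hp47 : InM (OJ 3) p47 := by
    rw [InM, OJ, maskS_eq.2]; exact entries_data.2.2.2.2.2.2.2.2.2
  have h47 : q p47 = p47 := fixed_spec.1 (fun w hw => by
    rw [← Equiv.Perm.mul_apply, ← hc _ (wordU_mem hw).1, Equiv.Perm.mul_apply, (wordU_mem hw).2])
    ((image_orbit hc (by norm_num) hp47).2.1 rfl)
  have h44 : q p44 = p44 := by
    have hm : InM (OJ 1) (q p44) := by
      rcases (image_orbit hc (by norm_num) (x := p44) hp44).2.2 rfl with h | h
      · exact h
      · exfalso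
        have e := fix_orbit hc (by norm_num) hp81 h h81
        have : q p44 = p44 := q.injective e
        rw [this] at h
        have := congrArg (fun m : ℕ => m.testBit 44) oj_data.2.2.2.2.1
        simp only [Nat.testBit_and, Nat.zero_testBit] at this
        rw [show (OJ 1).testBit 44 = true from hp44, show (OJ 4).testBit 44 = true from h] at this
        exact absurd this (by simp)
    refine fixed_spec.2.2 (fun w hw => ?_) hm
    rw [← Equiv.Perm.mul_apply, ← hc _ (wordM_mem hw).2.1, Equiv.Perm.mul_apply,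
      M81_fix44 (wordM_mem hw).2]
  refine Equiv.ext fun x => ?_
  rcases oj_cases x with rfl | rfl | h | h | h | h
  · exact h0
  · exact hv
  · exact fix_orbit hc (by norm_num) (x := p44) hp44 h h44
  · exact fix_orbit hc (by norm_num) (x := p21) hp21 h h21
  · exact fix_orbit hc (by norm_num) hp47 h h47
  · exact fix_orbit hc (by norm_num) hp81 h h81

theorem P11_comm {σ : PP} (hσ : σ ∈ JJ) : P 11 * σ = σ * P 11 := by
  have hle : JJ ≤ Subgroup.centralizer {P 11} := by
    refine (Subgroup.closure_le _).2 ?_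
    rintro _ ⟨k, hk, rfl⟩
    rw [SetLike.mem_coe, Subgroup.mem_centralizer_singleton_iff]
    have h := rel_ok
    simp only [relOK, Bool.and_eq_true, List.all_eq_true, List.mem_range] at h
    have e := (h.1.1.1.1.1.1.1.1.1.1.1 k hk).2
    have hk12 : k < 12 := Nat.lt_trans hk (by norm_num)
    have := W_eq (L := [11, k]) (L' := [k, 11]) (by simp [hk12]) (by simp [hk12]) e
    simpa [W, permL] using this.symm
  exact (Subgroup.mem_centralizer_singleton_iff.1 (hle hσ)).symm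

theorem extra_facts : P 9 = P 8 * P 11 ∧ P 10 = P 7 * P 11 ∧ P 7 p0 = pv ∧ P 8 p0 = pv ∧
    P 11 p0 = p0 ∧ P 11 pv = pv ∧ P 11 p81 = p81 ∧ P 11 p21 = p437 := by
  have h := rel_ok
  simp only [relOK, Bool.and_eq_true, List.all_eq_true] at h
  obtain ⟨⟨⟨⟨⟨⟨⟨⟨⟨⟨⟨-, e9⟩, e10⟩, -⟩, -⟩, -⟩, e7⟩, e8⟩, -⟩, -⟩, e21⟩, eF⟩ := h
  refine ⟨?_, ?_, ?_, ?_, ?_, ?_, ?_, ?_⟩
  · simpa [W, permL] using W_eq (L := [9]) (L' := [8, 11]) (by simp) (by simp) e9
  · simpa [W, permL] using W_eq (L := [10]) (L' := [7, 11]) (by simp) (by simp) e10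
  all_goals refine Fin.ext ?_; rw [P_val (by norm_num)]
  · exact Nat.eq_of_beq_eq_true e7
  · exact Nat.eq_of_beq_eq_true e8
  · exact Nat.eq_of_beq_eq_true (eF 0 (by simp))
  · exact Nat.eq_of_beq_eq_true (eF 995 (by simp))
  · exact Nat.eq_of_beq_eq_true (eF 81 (by simp))
  · exact Nat.eq_of_beq_eq_true e21

theorem W_mem_of {K : Subgroup PP} : ∀ {L : List ℕ}, (∀ k ∈ L, P k ∈ K) → W L ∈ K
  | [], _ => one_mem _
  | k :: L, h => mul_mem (h k (List.mem_cons_self ..))
      (W_mem_of fun x hx => h x (List.mem_cons_of_mem _ hx))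

/-- A word in the stabiliser and one further letter lies in a group containing these. -/
theorem word_mem {K : Subgroup PP} (hle : HH ≤ K) {j : ℕ} (hj : j < 12) (hP : P j ∈ K) {L : List ℕ}
    (h : (L.all fun k => Nat.blt k 6 || Nat.beq k j) = true) :
    W L ∈ K ∧ ∀ k ∈ L, k < 12 := by
  simp only [List.all_eq_true, Bool.or_eq_true, Nat.blt_eq] at h
  refine ⟨W_mem_of fun k hk => ?_, fun k hk => ?_⟩
  · rcases h k hk with h6 | h6
    · exact hle (P_mem h6)
    · rw [Nat.eq_of_beq_eq_true h6]; exact hP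
  · rcases h k hk with h6 | h6
    · omega
    · rw [Nat.eq_of_beq_eq_true h6]; exact hj

/-- The false swaps do not lie in a group with this point stabiliser. -/
theorem not_false_swap {K : Subgroup PP} (hle : HH ≤ K) (hstab : ∀ σ ∈ K, σ p0 = p0 → σ ∈ HH) :
    P 8 ∉ K ∧ P 9 ∉ K ∧ P 10 ∉ K := by
  have h := refute_ok
  simp only [refuteOK, Bool.and_eq_true, Bool.not_eq_true'] at h
  obtain ⟨⟨⟨⟨⟨⟨⟨⟨⟨⟨⟨⟨a1, a2⟩, a3⟩, a4⟩, b1⟩, b2⟩, b3⟩, b4⟩, c1⟩, c2⟩, c3⟩, c4⟩, c5⟩ := h
  have inHH : ∀ {j : ℕ} {L : List ℕ}, j < 12 → P j ∈ K →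
      (L.all fun k => Nat.blt k 6 || Nat.beq k j) = true → Nat.beq (actL gensP L 0) 0 = true →
      W L ∈ HH ∧ ∀ k ∈ L, k < 12 := fun {j L} hj hP hL h0 => by
    obtain ⟨hm, h12⟩ := word_mem hle hj hP hL
    refine ⟨hstab _ hm (Fin.ext ?_), h12⟩
    rw [W_val h12]
    exact Nat.eq_of_beq_eq_true h0
  have leave : ∀ {L : List ℕ} {p : ℕ}, W L ∈ HH → (∀ k ∈ L, k < 12) → maskS.testBit p = true →
      maskS.testBit (actL gensP L p) = false → False := fun {L p} hm h12 hp hq => by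
    have hlt : p < 1782 := by
      by_contra hb
      rw [testBit_maskS (Nat.not_lt.1 hb)] at hp
      exact Bool.false_ne_true hp
    have := HH_invS hm (x := ⟨p, hlt⟩) hp
    rw [InM, W_val h12, hq] at this
    exact Bool.false_ne_true this
  refine ⟨fun hP => ?_, fun hP => ?_, fun hP => ?_⟩
  · obtain ⟨hm, h12⟩ := inHH (by norm_num) hP a1 a2
    exact leave hm h12 a3 a4
  · obtain ⟨hm, h12⟩ := inHH (by norm_num) hP c1 c2
    have hone : W (dec innerTE.1) = 1 := HH_faithful hm fun a ha hlt => Fin.ext (by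
      rw [W_val h12]
      exact Nat.eq_of_beq_eq_true (List.all_eq_true.1 c3 a ha))
    have hlt : innerTE.2 < 1782 := by rwa [Nat.blt_eq] at c4
    have := W_val h12 ⟨innerTE.2, hlt⟩
    rw [hone] at this
    simp only [Equiv.Perm.one_apply] at this
    rw [← this] at c5
    exact absurd c5 (by simp)
  · obtain ⟨hm, h12⟩ := inHH (by norm_num) hP b1 b2
    exact leave hm h12 b3 b4

theorem P6_mem {K : Subgroup PP} (hle : HH ≤ K) (hP : P 7 ∈ K) : P 6 ∈ K := by
  have h := rel_ok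
  simp only [relOK, Bool.and_eq_true] at h
  obtain ⟨⟨⟨⟨⟨⟨⟨⟨-, e⟩, hb⟩, -⟩, -⟩, -⟩, -⟩, -⟩, -⟩ := h
  obtain ⟨hm, h12⟩ := word_mem hle (by norm_num) hP hb
  have := W_eq (L := [6]) (L' := dec wordG) (by simp) h12 e
  have e6 : W [6] = P 6 := permL_single gensP 6
  rw [← e6, this]
  exact hm

/-- The image of the presented group. -/
theorem range_eq : SporSuz.rep.range = genK 7 := by
  rw [MonoidHom.range_eq_map, ← SporSuz.closure_gen, MonoidHom.map_closure, genK, ← Set.image_comp]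
  refine congrArg Subgroup.closure (Set.image_congr fun i (hi : i < 7) => ?_)
  show SporSuz.rep (SporSuz.gen i) = P i
  rw [SporSuz.rep_gen i hi]
  refine Equiv.ext fun x => Fin.ext ?_
  have ht := table_ok
  simp only [tableOK, eagerN_eq, List.all_eq_true, List.mem_range] at ht
  exact (SuzA.valid.toPerm_apply SuzA.sq hi x).trans
    ((Nat.eq_of_beq_eq_true (ht i hi x x.2)).symm.trans (P_val (by omega) (x : Fin 1782)).symm)

/-- A group of this order with this point stabiliser and such a swap is the Suzuki group. -/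
theorem identify {K : Subgroup PP} (hle : HH ≤ K) (hstab : ∀ σ ∈ K, σ p0 = p0 → σ ∈ HH)
    (hcard : Nat.card K = 448345497600) {g : PP} (hg : g ∈ K) (hg0 : g p0 = pv) (hgv : g pv = p0)
    (hconj : ((∀ σ ∈ JJ, g * σ = σ * g) ∧ g p81 = p44) ∨
      ((∀ σ ∈ JJ, g * σ = P 7 * σ * P 7 * g) ∧ g (P 7 p44) = p44)) :
    Nonempty (K ≃* Cfsg.Spor.Suz) := by
  obtain ⟨hf9, hf10, h70, h80, h110, h11v, h1181, h1121⟩ := extra_facts
  have h7 := P_mul_self (k := 7) (by norm_num)
  have h8 := P_mul_self (k := 8) (by norm_num)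
  have h11 := P_mul_self (k := 11) (by norm_num)
  have swap : ∀ {r : PP}, r * r = 1 → r p0 = pv → r pv = p0 := fun {r} hr h => by
    rw [← h, ← Equiv.Perm.mul_apply, hr]; rfl
  have main : ∀ r : PP, r * r = 1 → r p0 = pv → (∀ σ ∈ JJ, r * g * σ = σ * (r * g)) → r (g p81) = p81 →
      g = r ∨ g = r * P 11 := by
    intro r hr hr0 hc h81
    have f0 : (r * g) p0 = p0 := by rw [Equiv.Perm.mul_apply, hg0, swap hr hr0]
    have fv : (r * g) pv = pv := by rw [Equiv.Perm.mul_apply, hgv, hr0]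
    have h21 : (r * g) p21 = p21 ∨ (r * g) p21 = p437 := fixed_spec.2.1 (fun w hw => by
      rw [← Equiv.Perm.mul_apply, ← hc _ (wordW_mem hw).1, Equiv.Perm.mul_apply, (wordW_mem hw).2])
      ((image_orbit hc (by norm_num) (i := 2) (x := p21) oj_data.2.2.1).1 rfl)
    rcases h21 with h21 | h21
    · left
      have := comm_eq_one hc f0 fv h81 h21
      calc g = r * (r * g) := by rw [← mul_assoc, hr, one_mul]
        _ = r := by rw [this, mul_one]
    · right
      have := comm_eq_one (q := P 11 * (r * g))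
        (fun σ hσ => by rw [mul_assoc, hc σ hσ, ← mul_assoc, P11_comm hσ, mul_assoc])
        (by rw [Equiv.Perm.mul_apply, f0, h110]) (by rw [Equiv.Perm.mul_apply, fv, h11v])
        (by rw [Equiv.Perm.mul_apply, Equiv.Perm.mul_apply, h81, h1181])
        (by rw [Equiv.Perm.mul_apply, h21, ← h1121, ← Equiv.Perm.mul_apply, h11]; rfl)
      calc g = r * (P 11 * (P 11 * (r * g))) := by
            rw [← mul_assoc (P 11), h11, one_mul, ← mul_assoc, hr, one_mul]
        _ = r * P 11 := by rw [this, mul_one]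
  obtain ⟨no8, no9, no10⟩ := not_false_swap hle hstab
  have hP7 : P 7 ∈ K := by
    rcases hconj with ⟨hc, h81⟩ | ⟨hc, h44⟩
    · exfalso
      rcases main (P 8) h8 h80 (fun σ hσ => by
        rw [mul_assoc, hc σ hσ, ← mul_assoc, P8_comm hσ, mul_assoc]) (by
        rw [h81, ← P8_81, ← Equiv.Perm.mul_apply, h8]; rfl) with e | e
      · exact no8 (e ▸ hg)
      · rw [← hf9] at e; exact no9 (e ▸ hg)
    · have hq : ∀ σ ∈ JJ, P 7 * g * σ = σ * (P 7 * g) := fun σ hσ => by
        calc P 7 * g * σ = P 7 * (P 7 * σ * P 7 * g) := by rw [mul_assoc, hc σ hσ]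
          _ = (P 7 * P 7) * σ * (P 7 * g) := by group
          _ = σ * (P 7 * g) := by rw [h7, one_mul]
      have hy : InM (OJ 4) (P 7 p44) := by
        rw [InM, P_val (by norm_num)]; exact oj_data.2.2.2.1
      have hfix : (P 7 * g) (P 7 p44) = P 7 p44 := by rw [Equiv.Perm.mul_apply, h44]
      have h81 := fix_orbit hq (by norm_num) hy (y := p81) entries_data.2.2.2.2.2.2.2.1 hfix
      rcases main (P 7) h7 h70 hq h81 with e | e
      · exact e ▸ hg
      · rw [← hf10] at e; exact absurd (e ▸ hg) no10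
  have hgen : genK 7 ≤ K := by
    refine (Subgroup.closure_le _).2 ?_
    rintro _ ⟨k, hk, rfl⟩
    rcases Nat.lt_succ_iff_lt_or_eq.1 (show k < 7 from hk) with h | rfl
    · exact hle (P_mem h)
    · exact P6_mem hle hP7
  let φ : Cfsg.Spor.Suz →* PP := SporSuz.rep
  have hinj : Function.Injective φ := SporSuz.card_eq.2
  have hr : φ.range = genK 7 := range_eq
  have hrange : φ.range = K := by
    rw [hr]
    refine Subgroup.eq_of_le_of_card_ge hgen ?_
    have e : Nat.card φ.range = 448345497600 := by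
      rw [← Nat.card_congr (MonoidHom.ofInjective hinj).toEquiv, SporSuz.card_eq.1]
    rw [hr] at e
    exact le_of_eq (hcard.trans e.symm)
  exact ⟨(MulEquiv.subgroupCongr hrange.symm).trans (MonoidHom.ofInjective hinj).symm⟩

end CfsgLib.Recog.Suz1782
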