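import Cfsg.Agent.Lib.Recog.Suz1782.Subgroups

/-!
A subgroup of the point stabiliser of index 1365 containing the stabiliser of 81 of the Hall-Janko
subgroup is the stabiliser of 44.
-/

set_option autoImplicit false
set_option maxRecDepth 100000

namespace CfsgLib.Recog.Suz1782

/-- The distinguished set of 96 points. -/
noncomputable def S0 : Finset (Fin 1782) :=
  Finset.univ.filter fun x => (uMask selS0).testBit x = true

/-- A subgroup of the point stabiliser containing the stabiliser of 81 meets the Hall-Janko subgroup in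
that or in the whole. -/
theorem inf_JJ {K : Subgroup PP} (hM : M81 ≤ K) :
    Nat.card (K ⊓ JJ : Subgroup PP) = 1920 ∨ JJ ≤ K := by
  let L : Subgroup PP := K ⊓ JJ
  have hML : M81 ≤ L := le_inf hM inf_le_left
  let T := orbF L p81
  obtain ⟨-, hinv, -, -⟩ := orbJ_spec (i := 4) (by norm_num)
  have hTJ : ∀ x ∈ T, InM (entry orbJ 4).2.2.1 x := fun x hx => by
    obtain ⟨σ, hσ, rfl⟩ := mem_orbF.1 hx
    exact hinv σ hσ.2 p81 entries_data.2.2.2.2.2.2.2.1
  have hTS : ∀ x ∈ T, InM maskS x := fun x hx => by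
    obtain ⟨σ, hσ, rfl⟩ := mem_orbF.1 hx
    refine HH_invS (JJ_le hσ.2) ?_
    show maskS.testBit 81 = true
    decide +kernel
  obtain ⟨sel, hlt, -, hcard, hroot⟩ := exists_sel T hTS fun σ hσ x hx => orbF_inv (hML hσ) hx
  have h2 : sel.testBit 2 = true :=
    (hroot 2 (by norm_num) p81 sel_facts.2.2.2.2.1.symm).2 (self_mem_orbF L p81)
  have hout : ∀ i < 9, i = 0 ∨ i = 1 ∨ i = 8 → sel.testBit i = false := by
    intro i hi hc
    by_contra hb
    rw [Bool.not_eq_false] at hb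
    have hr : (entry orbMS i).1 < 1782 := by
      rcases hc with rfl | rfl | rfl <;> decide +kernel
    have := hTJ _ ((hroot i hi ⟨_, hr⟩ rfl).1 hb)
    rw [InM, sel_facts.2.2.2.1 i hi hc] at this
    exact Bool.false_ne_true this
  have hand : sel &&& 0b100000011 = 0 := by
    have key : ∀ sel < 512, sel.testBit 0 = false → sel.testBit 1 = false → sel.testBit 8 = false →
        sel &&& 0b100000011 = 0 := by decide +kernel
    exact key sel hlt (hout 0 (by norm_num) (by norm_num)) (hout 1 (by norm_num) (by norm_num))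
      (hout 8 (by norm_num) (by norm_num))
  have hstab : stabIn L p81 = M81 := by
    refine le_antisymm (fun σ hσ => ⟨hσ.1.2, hσ.2⟩) fun σ hσ => ⟨hML hσ, hσ.2⟩
  have hc := card_orbF L p81
  rw [hstab, card_M81, hcard] at hc
  have hdvd : Nat.card L ∣ 604800 := card_JJ ▸ Subgroup.card_dvd_of_le inf_le_right
  rw [← hc, show 604800 = 1920 * 315 by norm_num] at hdvd
  rcases sel_facts.1 sel hlt h2 hand (Nat.mod_eq_zero_of_dvd ((Nat.mul_dvd_mul_iff_left (by norm_num)).1 hdvd)) with h | h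
  · left
    show Nat.card L = _
    rw [← hc, h, mul_one]
  · right
    have : L = JJ := Subgroup.eq_of_le_of_card_ge inf_le_right (by rw [card_JJ, ← hc, h])
    exact this ▸ inf_le_left

theorem mem_S0 {x : Fin 1782} : x ∈ S0 ↔ InM (uMask selS0) x := by simp [S0, InM]

theorem pv_S0 : pv ∈ S0 := mem_S0.2 (by show (uMask selS0).testBit 995 = true; decide +kernel)

/-- The subgroup preserving the distinguished set. -/
noncomputable def stabS0 : Subgroup PP where
  carrier := {σ | σ ∈ HH ∧ ∀ x, σ x ∈ S0 ↔ x ∈ S0}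
  mul_mem' {a b} ha hb := ⟨mul_mem ha.1 hb.1, fun x => (ha.2 (b x)).trans (hb.2 x)⟩
  one_mem' := ⟨one_mem _, fun _ => Iff.rfl⟩
  inv_mem' {a} ha := ⟨inv_mem ha.1, fun x => by
    conv_rhs => rw [← (a.apply_symm_apply x : a (a⁻¹ x) = x)]
    exact (ha.2 _).symm⟩

theorem mem_stabS0 {σ : PP} : σ ∈ stabS0 ↔ σ ∈ HH ∧ ∀ x, σ x ∈ S0 ↔ x ∈ S0 := Iff.rfl

/-- A subgroup of index 1365 containing the stabiliser of 81 preserves the distinguished set. -/
theorem le_stabS0 {K : Subgroup PP} (hK : K ≤ HH) (hcard : Nat.card K = 184320) (hM : M81 ≤ K) :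
    K ≤ stabS0 := by
  let T := orbF K pv
  have hstab : stabIn K pv = K ⊓ JJ := by
    refine le_antisymm (fun σ hσ => ⟨hσ.1, mem_JJ (hK hσ.1) hσ.2⟩) fun σ hσ => ⟨hσ.1, JJ_fix hσ.2⟩
  have hinf : Nat.card (K ⊓ JJ : Subgroup PP) = 1920 := by
    rcases inf_JJ hM with h | h
    · exact h
    · have := Subgroup.card_dvd_of_le h
      rw [card_JJ, hcard] at this
      norm_num at this
  have hc := card_orbF K pv
  rw [hstab, hinf, hcard] at hc
  have hTS : ∀ x ∈ T, InM maskS x := fun x hx => by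
    obtain ⟨σ, hσ, rfl⟩ := mem_orbF.1 hx
    exact HH_invS (hK hσ) pv_mem
  obtain ⟨sel, hlt, hiff, hcT, hroot⟩ := exists_sel T hTS fun σ hσ x hx => orbF_inv (hM hσ) hx
  have h8 : sel.testBit 8 = true :=
    (hroot 8 (by norm_num) pv sel_facts.2.2.2.2.2.1.symm).2 (self_mem_orbF K pv)
  have h96 : uSum sel = 96 := by
    have : T.card = (orbF K pv).card := rfl
    omega
  have hsel := sel_facts.2.1 sel hlt h8 h96
  subst hsel
  have hT : ∀ x, x ∈ S0 ↔ x ∈ T := fun x => mem_S0.trans (hiff x).symm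
  refine fun σ hσ => ⟨hK hσ, fun x => ?_⟩
  rw [hT, hT]
  refine ⟨fun h => ?_, fun h => orbF_inv hσ h⟩
  have := orbF_inv (inv_mem hσ) h
  rwa [inv_app] at this

theorem card_stabS0_le (hM : M81 ≤ stabS0) : Nat.card stabS0 ≤ 184320 := by
  have hstab : stabIn stabS0 pv = stabS0 ⊓ JJ := by
    refine le_antisymm (fun σ hσ => ⟨hσ.1, mem_JJ (mem_stabS0.1 hσ.1).1 hσ.2⟩)
      fun σ hσ => ⟨hσ.1, JJ_fix hσ.2⟩
  have hinf : Nat.card (stabS0 ⊓ JJ : Subgroup PP) = 1920 := by
    rcases inf_JJ hM with h | h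
    · exact h
    · exfalso
      obtain ⟨-, -, htr, -⟩ := orbJ_spec (i := 3) (by norm_num)
      have e := maskS_eq.2
      obtain ⟨σ, hσ, hσx⟩ := htr ⟨79, by norm_num⟩ p47 (by rw [e]; exact sel_facts.2.2.2.2.2.2.2.2)
        (by rw [e]; exact entries_data.2.2.2.2.2.2.2.2.2)
      have h79 := ((mem_stabS0.1 (h hσ)).2 ⟨79, by norm_num⟩).2 (mem_S0.2 sel_facts.2.2.2.2.2.2.1)
      rw [hσx, mem_S0] at h79
      exact Bool.false_ne_true (sel_facts.2.2.2.2.2.2.2.1.symm.trans h79)
  have hsub : (orbF stabS0 pv).card ≤ 96 := by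
    refine le_trans (Finset.card_le_card (t := S0) fun x hx => ?_) ?_
    · obtain ⟨σ, hσ, rfl⟩ := mem_orbF.1 hx
      exact ((mem_stabS0.1 hσ).2 pv).2 pv_S0
    · refine le_of_eq ((cnt_uMask (by decide : selS0 < 512)).trans ?_)
      decide +kernel
  have hc := card_orbF stabS0 pv
  rw [hstab, hinf] at hc
  omega

theorem card_stab44 : Nat.card (stabIn HH p44) = 184320 := by
  have h := card_orbF HH p44
  obtain ⟨hc, hinv, htr⟩ := orbH_spec (i := 1) (by norm_num)
  rw [orbF_eq (x := p44) hinv htr entries_data.2.2.2.2.2.2.2.2.1, card_HH] at h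
  rw [cnt, entries_data.2.1] at hc
  rw [hc] at h
  omega

/-- Uniqueness of the overgroup of index 1365. -/
theorem eq_stab44 {K : Subgroup PP} (hK : K ≤ HH) (hcard : Nat.card K = 184320) (hM : M81 ≤ K) :
    K = stabIn HH p44 := by
  have key : ∀ {L : Subgroup PP}, L ≤ HH → Nat.card L = 184320 → M81 ≤ L → L = stabS0 := by
    intro L h1 h2 h3
    have hle := le_stabS0 h1 h2 h3
    exact Subgroup.eq_of_le_of_card_ge hle (h2 ▸ card_stabS0_le (h3.trans hle))
  rw [key hK hcard hM, key (L := stabIn HH p44) inf_le_left card_stab44 fun σ hσ => ⟨JJ_le hσ.1, M81_fix44 hσ⟩]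

end CfsgLib.Recog.Suz1782
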