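import Cfsg.Agent.Lib.Recog.Suz1782.Subgroups
import Cfsg.Agent.Lib.Recog.Suz1782.ChecksMasks
import Mathlib.GroupTheory.Sylow

/-!
The subgroups of index 416 of the point stabiliser are the stabilisers of the 416 points.
-/

set_option autoImplicit false
set_option maxRecDepth 100000

namespace CfsgLib.Recog.Suz1782

open CfsgLib.Recog.McL275 (eagerN_eq closeUp_sound)

open scoped Pointwise

/-- A permutation with `σ ^ p = 1` fixes an invariant set with fewer than `p` points. -/
theorem fix_of_small {σ : PP} {p : ℕ} (hp : p.Prime) (hσ : σ ^ p = 1) {F : Finset (Fin 1782)}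
    (hF : ∀ x ∈ F, σ x ∈ F) (hc : F.card < p) {y : Fin 1782} (hy : y ∈ F) : σ y = y := by
  have hall : ∀ j : ℕ, (σ ^ j) y ∈ F := by
    intro j
    induction j with
    | zero => exact hy
    | succ j ih => rw [pow_succ', Equiv.Perm.mul_apply]; exact hF _ ih
  obtain ⟨i, hi, j, hj, hne, he⟩ := Finset.exists_ne_map_eq_of_card_lt_of_maps_to
    (s := Finset.range p) (f := fun j => (σ ^ j) y) (by rwa [Finset.card_range]) fun j _ => hall j
  wlog hlt : i < j generalizing i j
  · exact this j hj i hi hne.symm he.symm (by omega)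
  obtain ⟨d, rfl⟩ : ∃ d, j = i + d := ⟨j - i, by omega⟩
  rw [pow_add, Equiv.Perm.mul_apply] at he
  have hd : σ ^ d ∈ MulAction.stabilizer PP y := ((σ ^ i).injective he).symm
  have hcop : Nat.Coprime d p := (hp.coprime_iff_not_dvd.2 (Nat.not_dvd_of_pos_of_lt (by omega)
    (by have := Finset.mem_range.1 hj; omega))).symm
  have := Nat.gcd_eq_gcd_ab d p
  rw [hcop] at this
  have he1 : σ = σ ^ ((1 : ℤ)) := (zpow_one σ).symm
  rw [show ((1 : ℕ) : ℤ) = 1 from rfl] at this
  rw [this, zpow_add, zpow_mul, zpow_mul, zpow_natCast, zpow_natCast, hσ, one_zpow, mul_one] at he1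
  rw [he1]
  exact Subgroup.zpow_mem _ hd _

/-- A point of period a prime `p` makes `p` divide the order. -/
theorem dvd_orderOf_of_period {σ : PP} {p : ℕ} (hp : p.Prime) {y : Fin 1782} (h1 : σ y ≠ y)
    (hpy : (σ ^ p) y = y) : p ∣ orderOf σ := by
  by_contra h
  have hcop : Nat.Coprime p (orderOf σ) := hp.coprime_iff_not_dvd.2 h
  have := Nat.gcd_eq_gcd_ab p (orderOf σ)
  rw [hcop, show ((1 : ℕ) : ℤ) = 1 from rfl] at this
  have he1 : σ = σ ^ ((1 : ℤ)) := (zpow_one σ).symm
  rw [this, zpow_add, zpow_mul, zpow_mul, zpow_natCast, zpow_natCast, pow_orderOf_eq_one, one_zpow,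
    mul_one] at he1
  refine h1 ?_
  rw [he1]
  exact Subgroup.zpow_mem (MulAction.stabilizer PP y) (show σ ^ p ∈ MulAction.stabilizer PP y from hpy) _

/-- Subgroups of full prime power order are conjugate. -/
theorem conj_of_card {H A B : Subgroup PP} (hA : A ≤ H) (hB : B ≤ H) {p k : ℕ} [Fact p.Prime]
    (hk : (Nat.card H).factorization p = k) (hcA : Nat.card A = p ^ k) (hcB : Nat.card B = p ^ k) :
    ∃ g ∈ H, ∀ x, x ∈ A → g * x * g⁻¹ ∈ B := by
  have e : ∀ {C : Subgroup PP}, C ≤ H → Nat.card C = p ^ k → Nat.card (C.subgroupOf H) = p ^ (Nat.card H).factorization p :=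
    fun {C} hC hc => by rw [Nat.card_congr (Subgroup.subgroupOfEquivOfLe hC).toEquiv, hk, hc]
  obtain ⟨g, hg⟩ := MulAction.exists_smul_eq H (Sylow.ofCard _ (e hA hcA)) (Sylow.ofCard _ (e hB hcB))
  refine ⟨g, g.2, fun x hx => ?_⟩
  have hx' : (⟨x, hA hx⟩ : H) ∈ (Sylow.ofCard _ (e hA hcA) : Subgroup H) := by
    rw [Sylow.coe_ofCard]; exact hx
  have := Subgroup.smul_mem_pointwise_smul _ (MulAut.conj g) _ hx'
  rw [← Sylow.pointwise_smul_def] at this
  have h2 : (MulAut.conj g • Sylow.ofCard _ (e hA hcA) : Sylow p H) = Sylow.ofCard _ (e hB hcB) := hg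
  rw [h2, Sylow.coe_ofCard] at this
  exact this

theorem card_factor (p : ℕ) [Fact p.Prime] {k m : ℕ} (h : 251596800 = p ^ k * m) (hm : ¬ p ∣ m) :
    (Nat.card HH).factorization p = k := by
  have hp : p.Prime := Fact.out
  rw [card_HH, h, Nat.factorization_mul (pow_ne_zero _ hp.ne_zero) (by rintro rfl; simp at h),
    Finsupp.add_apply, hp.factorization_pow, Finsupp.single_eq_same, Nat.factorization_eq_zero_of_not_dvd hm,
    add_zero]

/-! ### The fixed point sets -/

/-- An element fixes in the suborbit exactly the points of a listed set. -/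
def Att (z : PP) (i : ℕ) : Prop :=
  i < 2080 ∧ ∀ x, InM maskS x → (z x = x ↔ InM (mask i) x)

theorem mem_ptsF {i : ℕ} (hi : i < 2080) {j : ℕ} : j ∈ ptsF i ↔ (mask i).testBit j = true := by
  have h := mask_ok
  simp only [maskOK, eagerN_eq, List.all_eq_true, List.mem_range, Bool.and_eq_true] at h
  have := congrArg (fun m => m.testBit j) (Nat.eq_of_beq_eq_true (h i hi).1)
  simp only [testBit_foldl, Nat.zero_testBit, Bool.false_or] at this
  rw [← this, List.any_eq_true]
  simp [Nat.one_shiftLeft, Nat.testBit_two_pow]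

theorem mask_S {i : ℕ} (hi : i < 2080) {x : Fin 1782} (hx : InM (mask i) x) : InM maskS x := by
  have h := mask_ok
  simp only [maskOK, eagerN_eq, List.all_eq_true, List.mem_range, Bool.and_eq_true] at h
  have := congrArg (fun m => m.testBit x.val) (Nat.eq_of_beq_eq_true (h i hi).2)
  simp only [Nat.testBit_and] at this
  rw [InM] at hx ⊢
  rw [hx, Bool.true_and] at this
  exact this

theorem trans_ok {k : ℕ} (hk : k < 6) : transOK k = true := by
  interval_cases k
  exacts [trans0_ok, trans1_ok, trans2_ok, trans3_ok, trans4_ok, trans5_ok]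

theorem att_gen {k : ℕ} (hk : k < 6) {z : PP} {i : ℕ} (h : Att z i) :
    ∃ j, Att (P k * z * (P k)⁻¹) j := by
  obtain ⟨hi, h⟩ := h
  have ht := trans_ok hk
  simp only [transOK, eagerN_eq, List.all_eq_true, List.mem_range, Bool.and_eq_true, Nat.blt_eq] at ht
  obtain ⟨⟨hj, hback⟩, hfw⟩ := ht i hi
  refine ⟨tab i k, hj, fun x hx => ?_⟩
  have hk12 : k < 12 := Nat.lt_trans hk (by norm_num)
  have hinv : (P k)⁻¹ = P k := inv_eq_of_mul_eq_one_right (P_mul_self hk12)
  have hkk : P k (P k x) = x := by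
    rw [← Equiv.Perm.mul_apply, P_mul_self hk12, Equiv.Perm.one_apply]
  rw [hinv, Equiv.Perm.mul_apply, Equiv.Perm.mul_apply]
  have e : P k (z (P k x)) = x ↔ z (P k x) = P k x :=
    ⟨fun e => (P k).injective (e.trans hkk.symm), fun e => by rw [e, hkk]⟩
  rw [e, h _ (HH_invS (P_mem hk) hx)]
  constructor
  · intro hb
    have := hfw _ ((mem_ptsF hi).2 hb)
    rw [← P_val hk12, hkk] at this
    exact this
  · intro hb
    obtain ⟨-, hfw'⟩ := ht _ hj
    have := hfw' _ ((mem_ptsF hj).2 hb)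
    rw [Nat.eq_of_beq_eq_true hback, ← P_val hk12] at this
    exact this

theorem att_conj {g : PP} (hg : g ∈ HH) :
    (∀ {z i}, Att z i → ∃ j, Att (g * z * g⁻¹) j) ∧ ∀ {z i}, Att z i → ∃ j, Att (g⁻¹ * z * g) j := by
  induction hg using Subgroup.closure_induction with
  | mem y hy =>
    obtain ⟨k, hk, rfl⟩ := hy
    refine ⟨fun h => att_gen hk h, fun h => ?_⟩
    have e := att_gen hk h
    rwa [inv_eq_of_mul_eq_one_right (P_mul_self (Nat.lt_trans hk (by norm_num)))] at e ⊢
  | one => exact ⟨fun {z i} h => ⟨i, by simpa using h⟩, fun {z i} h => ⟨i, by simpa using h⟩⟩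
  | mul a b _ _ ha hb =>
    refine ⟨fun {z i} h => ?_, fun {z i} h => ?_⟩
    · obtain ⟨j, hj⟩ := hb.1 h
      obtain ⟨l, hl⟩ := ha.1 hj
      exact ⟨l, by simpa [mul_assoc] using hl⟩
    · obtain ⟨j, hj⟩ := ha.2 h
      obtain ⟨l, hl⟩ := hb.2 hj
      exact ⟨l, by simpa [mul_assoc] using hl⟩
  | inv a _ ha =>
    exact ⟨fun h => by simpa using ha.2 h, fun h => by simpa using ha.1 h⟩

/-- The element of order 3. -/
noncomputable def Z0 : PP := W (dec wordZ)

theorem small_facts : Z0 ∈ HH ∧ Z0 * Z0 * Z0 = 1 ∧ Z0 ≠ 1 ∧ Att Z0 0 ∧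
    ∀ b ∈ lvlBase lvlF, ∀ hb : b < 1782, Z0 ⟨b, hb⟩ = ⟨b, hb⟩ := by
  have h := small_ok
  simp only [smallOK, Bool.and_eq_true, List.all_eq_true, List.mem_range] at h
  obtain ⟨⟨⟨⟨⟨⟨⟨⟨hz, -⟩, h3⟩, hne⟩, hfix⟩, -⟩, -⟩, -⟩, hbase⟩ := h
  have hb := below_iff.1 hz
  have h12 : ∀ k ∈ dec wordZ, k < 12 := fun k hk => Nat.lt_trans (hb k hk) (by norm_num)
  have hmem : Z0 ∈ HH := W_mem hb
  have hatt : Att Z0 0 := by
    refine ⟨by norm_num, fun x hx => ?_⟩
    have := hfix x x.2
    rw [hx, Bool.not_true, Bool.false_or, beq_iff_eq] at this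
    constructor
    · intro e
      rw [InM, ← this]
      rw [← W_val h12]
      exact (congrArg Fin.val e) ▸ Nat.beq_refl _
    · intro e
      rw [InM] at e
      rw [e] at this
      refine Fin.ext ?_
      show ((W (dec wordZ) x : Fin 1782) : ℕ) = x
      rw [W_val h12]
      exact Nat.eq_of_beq_eq_true this
  refine ⟨hmem, ?_, fun e => ?_, hatt, fun b hb hlt => ?_⟩
  · have := W_eq (L := dec wordZ ++ dec wordZ ++ dec wordZ) (L' := [])
      (by simpa [List.mem_append] using h12) (by simp) h3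
    simpa [Z0, W, permL_append, permL_nil, mul_assoc] using this
  · have : eqWords 1782 gensP (dec wordZ) [] = true := by
      simp only [eqWords, List.all_eq_true, List.mem_range]
      intro i hi
      rw [← W_val h12 ⟨i, hi⟩, show W (dec wordZ) = 1 from e]
      exact Nat.beq_refl _
    rw [this] at hne
    exact absurd hne (by decide)
  · have hS : InM maskS ⟨b, hlt⟩ := List.all_eq_true.1 lvl_prods.2.2.2.2.2.2.2.2 b hb
    exact (hatt.2 _ hS).2 (hbase b hb)

/-- A conjugate of the element of order 3. -/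
def InC (z : PP) : Prop := ∃ g ∈ HH, z = g * Z0 * g⁻¹

theorem InC.mem {z : PP} (h : InC z) : z ∈ HH := by
  obtain ⟨g, hg, rfl⟩ := h
  exact mul_mem (mul_mem hg small_facts.1) (inv_mem hg)

theorem InC.conj {z h : PP} (hz : InC z) (hh : h ∈ HH) : InC (h * z * h⁻¹) := by
  obtain ⟨g, hg, rfl⟩ := hz
  exact ⟨h * g, mul_mem hh hg, by group⟩

theorem InC.att {z : PP} (h : InC z) : ∃ i, Att z i := by
  obtain ⟨g, hg, rfl⟩ := h
  exact (att_conj hg).1 small_facts.2.2.2.1

/-- An element fixing the base of the first set is a power of the element of order 3. -/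
theorem base_three {z : PP} (hz : z ∈ HH)
    (hfix : ∀ b ∈ lvlBase lvlF, ∀ hb : b < 1782, z ⟨b, hb⟩ = ⟨b, hb⟩) :
    z = 1 ∨ z = Z0 ∨ z = Z0 * Z0 := by
  classical
  obtain ⟨H', h1, h2⟩ := lvl_bound okP.1 (okP.2.symm ▸ (by norm_num : 6 ≤ 12))
    (K := HH) (fun _ hk => P_mem hk) lvlF_ok
  have hH' : Nat.card H' ≤ 3 := by
    rw [card_HH, ← lvl_prods.2.2.2.1] at h2
    exact Nat.le_of_mul_le_mul_left h2 (by have := lvl_prods.2.2.2.1; omega)
  have hz0 : Z0 ∈ H' := (h1 _).2 ⟨small_facts.1, small_facts.2.2.2.2⟩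
  have hord : orderOf Z0 = 3 :=
    orderOf_eq_prime (by rw [pow_succ, pow_two]; exact small_facts.2.1) small_facts.2.2.1
  have heq : Subgroup.zpowers Z0 = H' :=
    Subgroup.eq_of_le_of_card_ge (Subgroup.zpowers_le.2 hz0) (by rw [Nat.card_zpowers, hord]; exact hH')
  have hmem : z ∈ Subgroup.zpowers Z0 := heq.symm ▸ (h1 z).2 ⟨hz, hfix⟩
  obtain ⟨n, hn⟩ := (mem_powers_iff_mem_zpowers (x := Z0) (y := z)).2 hmem
  have hn' : Z0 ^ (n % 3) = z := by rw [← hn, ← hord]; exact pow_mod_orderOf Z0 n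
  have : n % 3 < 3 := Nat.mod_lt _ (by norm_num)
  interval_cases hv : n % 3
  · exact Or.inl (by simpa using hn'.symm)
  · exact Or.inr (Or.inl (by simpa using hn'.symm))
  · exact Or.inr (Or.inr (by rw [← hn', pow_two]))

/-! ### The Sylow 5-subgroup -/

/-- The first generator. -/
noncomputable def E1 : PP := W (dec (wordE.getD 0 0))

/-- The second generator. -/
noncomputable def E2 : PP := W (dec (wordE.getD 1 0))

theorem W_replicate (L : List ℕ) : ∀ j, W (List.flatten (List.replicate j L)) = W L ^ j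
  | 0 => by simp [W, permL]
  | j + 1 => by
    rw [List.replicate_succ, List.flatten_cons, pow_succ', ← W_replicate L j]
    exact permL_append gensP _ _

theorem E_facts : (∀ k ∈ dec (wordE.getD 0 0), k < 5) ∧ (∀ k ∈ dec (wordE.getD 1 0), k < 5) ∧
    E1 * E2 = E2 * E1 ∧ E1 ^ 5 = 1 ∧ E2 ^ 5 = 1 := by
  have h := sylow_ok
  simp only [sylowOK, Bool.and_eq_true] at h
  have b1 := below_iff.1 h.1.1.1.1.1.1.1
  have b2 := below_iff.1 h.1.1.1.1.1.1.2
  have t1 : ∀ k ∈ dec (wordE.getD 0 0), k < 12 := fun k hk => Nat.lt_trans (b1 k hk) (by norm_num)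
  have t2 : ∀ k ∈ dec (wordE.getD 1 0), k < 12 := fun k hk => Nat.lt_trans (b2 k hk) (by norm_num)
  refine ⟨b1, b2, ?_, ?_, ?_⟩
  · have := W_eq (L := dec (wordE.getD 0 0) ++ dec (wordE.getD 1 0))
      (L' := dec (wordE.getD 1 0) ++ dec (wordE.getD 0 0))
      (fun k hk => (List.mem_append.1 hk).elim (t1 k) (t2 k))
      (fun k hk => (List.mem_append.1 hk).elim (t2 k) (t1 k)) h.1.1.1.1.1.2
    simpa [E1, E2, W, permL_append] using this
  · rw [E1, ← W_replicate]
    exact W_eq (L' := []) (fun k hk => by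
      obtain ⟨l, hl, hk⟩ := List.mem_flatten.1 hk
      exact t1 k (List.eq_of_mem_replicate hl ▸ hk)) (by simp) h.1.1.1.1.2
  · rw [E2, ← W_replicate]
    exact W_eq (L' := []) (fun k hk => by
      obtain ⟨l, hl, hk⟩ := List.mem_flatten.1 hk
      exact t2 k (List.eq_of_mem_replicate hl ▸ hk)) (by simp) h.1.1.1.2

theorem W_elE (m : ℕ) : W (elE m) = E1 ^ (m / 5) * E2 ^ (m % 5) := by
  rw [elE, E1, E2, ← W_replicate, ← W_replicate]
  exact permL_append gensP _ _

theorem elE_lt (m : ℕ) : ∀ k ∈ elE m, k < 5 := by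
  intro k hk
  rcases List.mem_append.1 hk with hk | hk <;>
    obtain ⟨l, hl, hk⟩ := List.mem_flatten.1 hk
  · exact E_facts.1 k (List.eq_of_mem_replicate hl ▸ hk)
  · exact E_facts.2.1 k (List.eq_of_mem_replicate hl ▸ hk)

theorem W_pair (x y : ℕ) : W (elE (x % 5 * 5 + y % 5)) = E1 ^ x * E2 ^ y := by
  rw [W_elE, show (x % 5 * 5 + y % 5) / 5 = x % 5 by omega, show (x % 5 * 5 + y % 5) % 5 = y % 5 by omega,
    ← pow_eq_pow_mod x E_facts.2.2.2.1, ← pow_eq_pow_mod y E_facts.2.2.2.2]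

theorem pair_mul (i j k l : ℕ) : E1 ^ i * E2 ^ j * (E1 ^ k * E2 ^ l) = E1 ^ (i + k) * E2 ^ (j + l) := by
  have hc : E2 ^ j * E1 ^ k = E1 ^ k * E2 ^ j :=
    ((show Commute E2 E1 from E_facts.2.2.1.symm).pow_pow j k).eq
  rw [pow_add, pow_add, mul_assoc (E1 ^ i), ← mul_assoc (E2 ^ j), hc]
  group

/-- The Sylow 5-subgroup. -/
noncomputable def EE : Subgroup PP where
  carrier := {g | ∃ m, m < 25 ∧ g = W (elE m)}
  one_mem' := ⟨0, by norm_num, by simp [W_elE]⟩
  mul_mem' := by
    rintro _ _ ⟨a, -, rfl⟩ ⟨b, -, rfl⟩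
    refine ⟨(a / 5 + b / 5) % 5 * 5 + (a % 5 + b % 5) % 5, by omega, ?_⟩
    rw [W_pair, W_elE, W_elE, pair_mul]
  inv_mem' := by
    rintro _ ⟨a, -, rfl⟩
    refine ⟨(4 * (a / 5)) % 5 * 5 + (4 * (a % 5)) % 5, by omega, inv_eq_of_mul_eq_one_right ?_⟩
    rw [W_pair, W_elE, pair_mul, show a / 5 + 4 * (a / 5) = 5 * (a / 5) by omega,
      show a % 5 + 4 * (a % 5) = 5 * (a % 5) by omega, pow_mul, pow_mul, E_facts.2.2.2.1, E_facts.2.2.2.2]
    simp

theorem EE_le : EE ≤ JJ := by
  rintro _ ⟨m, -, rfl⟩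
  exact W_mem (elE_lt m)

theorem card_EE : Nat.card EE = 25 := by
  have h := sylow_ok
  simp only [sylowOK, Bool.and_eq_true, List.any_eq_true, List.mem_range] at h
  obtain ⟨x, hx, hfresh⟩ := h.1.1.2
  have hnd := (freshAll_sound hfresh).1
  have hbij : Function.Bijective fun m : Fin 25 => (⟨W (elE m), ⟨m, m.2, rfl⟩⟩ : EE) := by
    refine ⟨fun a b e => ?_, fun g => ?_⟩
    · have := congrArg (fun σ : PP => ((σ ⟨x, hx⟩ : Fin 1782) : ℕ)) (congrArg Subtype.val e)
      simp only [W_val (fun k hk => Nat.lt_trans (elE_lt a k hk) (by norm_num)),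
        W_val (fun k hk => Nat.lt_trans (elE_lt b k hk) (by norm_num))] at this
      exact Fin.ext ((hnd.getElem_inj_iff (i := a.val) (j := b.val) (hi := by simp) (hj := by simp)).1
        (by simpa using this))
    · obtain ⟨g, m, hm, rfl⟩ := g
      exact ⟨⟨m, hm⟩, rfl⟩
  rw [← Nat.card_congr (Equiv.ofBijective _ hbij), Nat.card_fin]

theorem EE_fix {x : Fin 1782} (hx : InM maskS x) (h : ∀ g ∈ EE, g x = x) : x = pv := by
  have hs := sylow_ok
  simp only [sylowOK, Bool.and_eq_true, List.all_eq_true, List.mem_range] at hs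
  have := hs.1.2 x x.2
  rw [hx, Bool.not_true, Bool.false_or, Bool.or_eq_true, Bool.not_eq_true'] at this
  rcases this with h1 | h1
  · exact Fin.ext (Nat.eq_of_beq_eq_true h1)
  · have hall : ((List.range 25).all fun m => Nat.beq (actL gensP (elE m) x) x) = true := by
      rw [List.all_eq_true]
      intro m hm
      rw [← W_val (fun k hk => Nat.lt_trans (elE_lt m k hk) (by norm_num)),
        h _ ⟨m, List.mem_range.1 hm, rfl⟩]
      exact Nat.beq_refl _
    exact absurd (hall.symm.trans h1) (by decide)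

theorem normal_EE {k : ℕ} (hk : k < wordN.length) :
    W (dec (wordN.getD k 0)) ∈ HH ∧ (∀ j ∈ dec (wordN.getD k 0), j < 12) ∧
      ∀ g ∈ EE, (W (dec (wordN.getD k 0)))⁻¹ * g * W (dec (wordN.getD k 0)) ∈ EE := by
  have h := sylow_ok
  simp only [sylowOK, Bool.and_eq_true, List.all_eq_true] at h
  have hw : wordN.getD k 0 ∈ wordN := by
    rw [List.getD_eq_getElem _ _ hk]; exact List.getElem_mem _
  obtain ⟨hb, hconj⟩ := h.2 _ hw
  have hb := below_iff.1 hb
  have h12 : ∀ j ∈ dec (wordN.getD k 0), j < 12 := fun j hj => Nat.lt_trans (hb j hj) (by norm_num)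
  refine ⟨JJ_le (W_mem hb), h12, ?_⟩
  set n := W (dec (wordN.getD k 0)) with hn
  have hgen : ∀ a : ℕ, a ∈ ([0, 1] : List ℕ) → n⁻¹ * W (dec (wordE.getD a 0)) * n ∈ EE := by
    intro a ha
    obtain ⟨m, hm, he⟩ := List.any_eq_true.1 (hconj a ha)
    have ha' : ∀ j ∈ dec (wordE.getD a 0), j < 12 := by
      intro j hj
      simp only [List.mem_cons, List.not_mem_nil, or_false] at ha
      rcases ha with rfl | rfl
      · exact Nat.lt_trans (E_facts.1 j hj) (by norm_num)
      · exact Nat.lt_trans (E_facts.2.1 j hj) (by norm_num)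
    refine ⟨m, List.mem_range.1 hm, ?_⟩
    have := W_eq (L' := elE m) (fun j hj => by
      simp only [List.mem_append, List.mem_reverse] at hj
      rcases hj with (hj | hj) | hj
      exacts [h12 j hj, ha' j hj, h12 j hj]) (fun j hj => Nat.lt_trans (elE_lt m j hj) (by norm_num)) he
    rw [← this, hn, ← W_reverse h12]
    simp [W, permL_append, mul_assoc]
  rintro _ ⟨m, -, rfl⟩
  rw [W_elE, show n⁻¹ * (E1 ^ (m / 5) * E2 ^ (m % 5)) * n =
    (n⁻¹ * E1 * n⁻¹⁻¹) ^ (m / 5) * (n⁻¹ * E2 * n⁻¹⁻¹) ^ (m % 5) by rw [conj_pow, conj_pow]; group]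
  rw [inv_inv]
  exact mul_mem (pow_mem (hgen 0 (by simp)) _) (pow_mem (hgen 1 (by simp)) _)

/-! ### The classification -/

/-- No subgroup of order 604800 over the Sylow 5-subgroup holds a conjugate fixing this set. -/
def Bad (i : ℕ) : Prop :=
  i < 2080 ∧ ∀ K : Subgroup PP, K ≤ HH → Nat.card K = 604800 → EE ≤ K → ∀ z, InC z → z ∈ K →
    ¬ ∀ x : Fin 1782, InM (mask i) x → z x = x

theorem bad_step {y k z : ℕ} (hs : stepN y k z = true) (hy : Bad y) : Bad z := by
  simp only [stepN, eagerN_eq, Bool.and_eq_true, Nat.blt_eq, List.all_eq_true] at hs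
  obtain ⟨⟨hk, hz⟩, hpts⟩ := hs
  obtain ⟨hn, h12, hnorm⟩ := normal_EE hk
  set n := W (dec (wordN.getD k 0)) with hn'
  refine ⟨hz, fun K hK hc hE w hw hwK hfix => ?_⟩
  refine hy.2 (K.map (MulAut.conj n⁻¹).toMonoidHom) ?_ ?_ ?_ (n⁻¹ * w * n⁻¹⁻¹) (hw.conj (inv_mem hn))
    (Subgroup.mem_map_of_mem _ hwK) fun x hx => ?_
  · rintro _ ⟨g, hg, rfl⟩
    exact mul_mem (mul_mem (inv_mem hn) (hK hg)) (inv_mem (inv_mem hn))
  · rw [Subgroup.card_map_of_injective (MulAut.conj n⁻¹).injective, hc]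
  · intro g hg
    have hle : EE.map (MulAut.conj n⁻¹).toMonoidHom = EE := by
      refine Subgroup.eq_of_le_of_card_ge ?_ (le_of_eq
        (Subgroup.card_map_of_injective (MulAut.conj n⁻¹).injective).symm)
      rintro _ ⟨e, he, rfl⟩
      simpa using hnorm e he
    rw [← hle] at hg
    exact Subgroup.map_mono hE hg
  · have hb := hpts _ ((mem_ptsF hy.1).2 hx)
    have hp := permN_ok
    simp only [permNOK, eagerN_eq, List.all_eq_true, List.mem_range] at hp
    rw [Nat.eq_of_beq_eq_true (hp k hk x x.2), ← W_val h12, ← hn'] at hb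
    rw [inv_inv, Equiv.Perm.mul_apply, Equiv.Perm.mul_apply, hfix (n x) hb, inv_app]

theorem orbitsN_spec {i : ℕ} (hi : i < 2080) (h995 : ¬ InM (mask i) pv) : Bad i := by
  have h := orbitsN_ok
  simp only [orbitsNOK, eagerN_eq, Bool.and_eq_true, List.all_eq_true, List.mem_range] at h
  obtain ⟨hrep, hcov⟩ := h
  have hc := hcov i hi
  rw [show (mask i).testBit 995 = false from Bool.eq_false_iff.2 h995, Bool.or_false, testBit_foldl,
    Bool.or_eq_true, List.any_eq_true] at hc
  rcases hc with hc | ⟨e, he, hc⟩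
  · simp at hc
  have hrepe := hrep e he
  simp only [Nat.blt_eq, Nat.ble_eq, Bool.and_eq_true, Bool.not_eq_true', List.all_eq_true] at hrepe
  obtain ⟨⟨⟨⟨he1, hc6⟩, hbase⟩, hitems⟩, hp, hne, hcyc⟩ := hrepe
  cases hcl : McL275.closeUp stepN e.2.2.2.2 (1 <<< e.1) with
  | none => rw [hcl] at hc; simp at hc
  | some V =>
    rw [hcl, Option.getD_some] at hc
    refine closeUp_sound (P := Bad) (fun y k z hs hy => bad_step hs hy) hcl (fun j hj => ?_) i hc
    rw [Nat.one_shiftLeft, Nat.testBit_two_pow, decide_eq_true_iff] at hj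
    subst hj
    refine ⟨he1, fun K hK hcK hE z hz hzK hfix => ?_⟩
    have hb6 := below_iff.1 hc6
    have hc12 : ∀ k ∈ dec e.2.1, k < 12 := fun k hk => Nat.lt_trans (hb6 k hk) (by norm_num)
    have hz12 : ∀ k ∈ dec wordZ, k < 12 := by
      have := small_ok
      simp only [smallOK, Bool.and_eq_true] at this
      exact fun k hk => Nat.lt_trans (below_iff.1 this.1.1.1.1.1.1.1.1 k hk) (by norm_num)
    set c := W (dec e.2.1) with hcdef
    have hcm : c ∈ HH := W_mem hb6
    have hrz : W (repZ e.2.1) = c * Z0 * c⁻¹ := by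
      rw [repZ, hcdef, Z0, ← W_reverse hc12]
      simp [W, permL_append, mul_assoc]
    have hzr : W (repZ e.2.1) ∈ K := by
      have hfixb : ∀ b ∈ lvlBase lvlF, ∀ hb : b < 1782, (c⁻¹ * z * c) ⟨b, hb⟩ = ⟨b, hb⟩ := by
        intro b hb hlt
        have h1 := hbase b hb
        rw [← W_val hc12 ⟨b, hlt⟩] at h1
        rw [Equiv.Perm.mul_apply, Equiv.Perm.mul_apply, hfix (c ⟨b, hlt⟩) h1, inv_app]
      rw [hrz]
      rcases base_three (mul_mem (mul_mem (inv_mem hcm) hz.mem) hcm) hfixb with h1 | h1 | h1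
      · exfalso
        obtain ⟨g, -, hg⟩ := hz
        have : z = 1 := by
          rw [show z = c * (c⁻¹ * z * c) * c⁻¹ by group, h1]; group
        rw [hg] at this
        exact small_facts.2.2.1 (by
          rw [show Z0 = g⁻¹ * (g * Z0 * g⁻¹) * g by group, this]; group)
      · rwa [← h1, show c * (c⁻¹ * z * c) * c⁻¹ = z by group]
      · have e2 : Z0 = (Z0 * Z0) * (Z0 * Z0) := by
          rw [show Z0 * Z0 * (Z0 * Z0) = Z0 * Z0 * Z0 * Z0 by group, small_facts.2.1, one_mul]
        rw [e2, ← h1, show c * (c⁻¹ * z * c * (c⁻¹ * z * c)) * c⁻¹ = z * z by group]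
        exact mul_mem hzK hzK
    have hrz12 : ∀ k ∈ repZ e.2.1, k < 12 := by
      intro k hk
      simp only [repZ, List.mem_append, List.mem_reverse] at hk
      rcases hk with (hk | hk) | hk
      exacts [hc12 k hk, hz12 k hk, hc12 k hk]
    set w := (e.2.2.1.map (itemW (repZ e.2.1))).flatten with hwdef
    have hitem : ∀ t, (∀ k ∈ itemW (repZ e.2.1) t, k < 12) ∧ (t ≤ 25 → W (itemW (repZ e.2.1) t) ∈ K) := by
      intro t
      rcases t with _ | _ | t
      · exact ⟨hrz12, fun _ => hzr⟩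
      · refine ⟨fun k hk => ?_, fun _ => ?_⟩
        · rcases List.mem_append.1 hk with hk | hk <;> exact hrz12 k hk
        · show permL 1782 gensP (repZ e.2.1 ++ repZ e.2.1) ∈ K
          rw [permL_append]; exact mul_mem hzr hzr
      · refine ⟨fun k hk => Nat.lt_trans (elE_lt (t + 1) k hk) (by norm_num),
          fun ht => hE ⟨t + 1, by omega, rfl⟩⟩
    have hw12 : ∀ k ∈ w, k < 12 := fun k hk => by
      obtain ⟨l, hl, hk⟩ := List.mem_flatten.1 hk
      obtain ⟨t, -, rfl⟩ := List.mem_map.1 hl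
      exact (hitem t).1 k hk
    have hwK : W w ∈ K := by
      suffices ∀ ts : List ℕ, (∀ t ∈ ts, t ≤ 25) → W (ts.map (itemW (repZ e.2.1))).flatten ∈ K from this _ hitems
      intro ts hts
      induction ts with
      | nil => exact one_mem _
      | cons t ts ih =>
        rw [List.map_cons, List.flatten_cons]
        show permL 1782 gensP _ ∈ K
        rw [permL_append]
        exact mul_mem ((hitem t).2 (hts t (List.mem_cons_self ..))) (ih fun s hs => hts s (List.mem_cons_of_mem _ hs))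
    let p : Fin 1782 := ⟨e.2.2.2.1, hp⟩
    have hpow : ∀ m : ℕ, (((W w) ^ m) p : ℕ) =
        Nat.rec (motive := fun _ => ℕ) e.2.2.2.1 (fun _ ih => McL275.eagerN ih fun q => actL gensP w q) m := by
      intro m
      induction m with
      | zero => rfl
      | succ m ih => simp only [eagerN_eq] at ih ⊢; rw [pow_succ', Equiv.Perm.mul_apply, W_val hw12, ih]
    have h13 : 13 ∣ orderOf (W w) := by
      refine dvd_orderOf_of_period (by norm_num) (y := p) (fun e1 => ?_) (Fin.ext ?_)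
      · have := congrArg Fin.val e1
        rw [W_val hw12] at this
        rw [this] at hne
        exact absurd ((Nat.beq_refl _).symm.trans hne) (by decide)
      · rw [hpow]; simpa [eagerN_eq] using Nat.eq_of_beq_eq_true hcyc
    have := h13.trans ((Subgroup.orderOf_coe ⟨W w, hwK⟩).symm ▸ orderOf_dvd_natCard (⟨W w, hwK⟩ : K))
    rw [hcK] at this
    norm_num at this

theorem fix_pv {K : Subgroup PP} (hK : K ≤ HH) (hc : Nat.card K = 604800) (hE : EE ≤ K) {z : PP}
    (hz : InC z) (hzK : z ∈ K) : z pv = pv := by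
  obtain ⟨i, hi, hatt⟩ := hz.att
  by_contra hne
  exact (orbitsN_spec hi fun h => hne ((hatt pv pv_mem).2 h)).2 K hK hc hE z hz hzK
    fun x hx => (hatt x (mask_S hi hx)).2 hx

theorem eq_JJ_of_EE {K : Subgroup PP} (hK : K ≤ HH) (hc : Nat.card K = 604800) (hE : EE ≤ K) :
    K = JJ := by
  classical
  haveI : Fact (Nat.Prime 3) := ⟨by norm_num⟩
  haveI : Fact (Nat.Prime 7) := ⟨by norm_num⟩
  -- a conjugate of the element of order 3 in K
  obtain ⟨R, hR⟩ := Sylow.exists_subgroup_card_pow_prime (G := K) 3 (n := 3) (by rw [hc]; norm_num)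
  let z0 : HH := ⟨Z0, small_facts.1⟩
  have hz3 : z0 ^ 3 = 1 := Subtype.ext (by
    show Z0 ^ 3 = 1
    rw [pow_succ, pow_two]; exact small_facts.2.1)
  obtain ⟨Q, hQ⟩ := (IsPGroup.of_card (p := 3) (n := 1) (G := Subgroup.zpowers z0) (by
    rw [Nat.card_zpowers, orderOf_eq_prime (p := 3) hz3 fun e => small_facts.2.2.1 (congrArg Subtype.val e),
      pow_one])).exists_le_sylow
  have hf3 : (Nat.card HH).factorization 3 = 3 := card_factor 3 (k := 3) (m := 9318400) (by norm_num) (by norm_num)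
  have hRK : R.map K.subtype ≤ K := Subgroup.map_subtype_le R
  obtain ⟨g, hg, hconj⟩ := conj_of_card (A := (Q : Subgroup HH).map HH.subtype) (B := R.map K.subtype)
    (Subgroup.map_subtype_le _) (hRK.trans hK) hf3
    (by rw [Subgroup.card_map_of_injective HH.subtype_injective, Sylow.card_eq_multiplicity, hf3])
    (by rw [Subgroup.card_map_of_injective K.subtype_injective, hR])
  have hzK : g * Z0 * g⁻¹ ∈ K := hRK (hconj Z0 ⟨z0, hQ (Subgroup.mem_zpowers z0), rfl⟩)
  have hzC : InC (g * Z0 * g⁻¹) := ⟨g, hg, rfl⟩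
  let F : Finset (Fin 1782) := Finset.univ.filter fun x => InM maskS x ∧ ∀ z, InC z → z ∈ K → z x = x
  have hpvF : pv ∈ F := by
    simp only [F, Finset.mem_filter, Finset.mem_univ, true_and]
    exact ⟨pv_mem, fun z hz hzk => fix_pv hK hc hE hz hzk⟩
  have hFinv : ∀ k ∈ K, ∀ x ∈ F, k x ∈ F := by
    intro k hk x hx
    simp only [F, Finset.mem_filter, Finset.mem_univ, true_and] at hx ⊢
    refine ⟨HH_invS (hK hk) hx.1, fun z hz hzk => ?_⟩
    have h1 := hz.conj (inv_mem (hK hk))
    rw [inv_inv] at h1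
    have h2 := hx.2 _ h1 (mul_mem (mul_mem (inv_mem hk) hzk) hk)
    rw [Equiv.Perm.mul_apply, Equiv.Perm.mul_apply] at h2
    have h3 := congrArg k h2
    rwa [show k (k⁻¹ (z (k x))) = z (k x) from k.apply_symm_apply _] at h3
  obtain ⟨i, hi, hatt⟩ := hzC.att
  have hFi : ∀ x ∈ F, InM (mask i) x := fun x hx => by
    simp only [F, Finset.mem_filter, Finset.mem_univ, true_and] at hx
    exact (hatt x hx.1).1 (hx.2 _ hzC hzK)
  have hF6 : F.card ≤ 6 := by
    have hf := few_ok
    simp only [fewOK, eagerN_eq, List.all_eq_true, List.mem_range, Bool.or_eq_true, Bool.not_eq_true',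
      Nat.ble_eq] at hf
    rcases hf i hi with h | h
    · exact absurd (hFi pv hpvF) (Bool.eq_false_iff.1 h)
    · refine le_trans ?_ (le_trans (List.toFinset_card_le _) h)
      rw [← Finset.card_image_of_injective F Fin.val_injective]
      refine Finset.card_le_card fun j hj => ?_
      obtain ⟨x, hx, rfl⟩ := Finset.mem_image.1 hj
      rw [List.mem_toFinset, List.mem_filter, mem_ptsF hi, List.all_eq_true]
      refine ⟨hFi x hx, fun m hm => ?_⟩
      rw [← W_val fun k hk => Nat.lt_trans (elE_lt m k hk) (by norm_num)]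
      exact hFi _ (hFinv _ (hE ⟨m, List.mem_range.1 hm, rfl⟩) x hx)
  obtain ⟨x, hx⟩ := exists_prime_orderOf_dvd_card' (G := K) 7 (by rw [hc]; norm_num)
  have hxpow : (x : PP) ^ 7 = 1 := by
    rw [← hx, ← Subgroup.orderOf_coe]; exact pow_orderOf_eq_one _
  have hxord : orderOf (x : PP) = 7 := by rw [Subgroup.orderOf_coe, hx]
  have hxfix : ∀ y ∈ F, (x : PP) y = y := fun y hy =>
    fix_of_small (by norm_num) hxpow (fun z hz => hFinv _ x.2 z hz) (by omega) hy
  have hF3 : F.card ≤ 3 := by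
    obtain ⟨X, hXm, hX1, hXpow, hXfix⟩ : ∃ X : PP, X ∈ HH ∧ X ≠ 1 ∧ X ^ 7 = 1 ∧
        (Finset.univ.filter fun y : Fin 1782 => InM maskS y ∧ X y = y).card ≤ 3 := by
      have h := small_ok
      simp only [smallOK, Bool.and_eq_true] at h
      have hb := below_iff.1 h.1.1.1.1.1.1.1.2
      have h12 : ∀ k ∈ dec wordX, k < 12 := fun k hk => Nat.lt_trans (hb k hk) (by norm_num)
      refine ⟨W (dec wordX), W_mem hb, fun e => ?_, ?_, ?_⟩
      · have he : eqWords 1782 gensP (dec wordX) [] = true := by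
          simp only [eqWords, List.all_eq_true, List.mem_range]
          intro j hj
          rw [← W_val h12 ⟨j, hj⟩, e]
          exact Nat.beq_refl _
        rw [he] at h
        exact absurd h.1.1.2 (by decide)
      · rw [← W_replicate]
        exact W_eq (L' := []) (fun k hk => by
          obtain ⟨l, hl, hk⟩ := List.mem_flatten.1 hk
          exact h12 k (List.eq_of_mem_replicate hl ▸ hk)) (by simp) h.1.1.1.2
      · rw [← Finset.card_image_of_injective _ Fin.val_injective]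
        refine le_trans (Finset.card_le_card fun j hj => ?_)
          (le_trans (List.toFinset_card_le _) (le_of_eq (Nat.eq_of_beq_eq_true h.1.2)))
        obtain ⟨y, hy, rfl⟩ := Finset.mem_image.1 hj
        simp only [Finset.mem_filter, Finset.mem_univ, true_and] at hy
        rw [List.mem_toFinset, List.mem_filter, List.mem_range, Bool.and_eq_true, ← W_val h12, hy.2]
        exact ⟨y.2, hy.1, Nat.beq_refl _⟩
    have hX7 : orderOf X = 7 := orderOf_eq_prime hXpow hX1
    obtain ⟨h, hh, hconj7⟩ := conj_of_card (A := Subgroup.zpowers X) (B := Subgroup.zpowers (x : PP))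
      (Subgroup.zpowers_le.2 hXm) (Subgroup.zpowers_le.2 (hK x.2))
      (card_factor 7 (k := 1) (m := 35942400) (by norm_num) (by norm_num))
      (by rw [Nat.card_zpowers, hX7, pow_one]) (by rw [Nat.card_zpowers, hxord, pow_one])
    have hmap : F.image (fun y => h⁻¹ y) ⊆ Finset.univ.filter fun y : Fin 1782 => InM maskS y ∧ X y = y := by
      intro y hy
      obtain ⟨u, hu, rfl⟩ := Finset.mem_image.1 hy
      have hu' := hu
      simp only [F, Finset.mem_filter, Finset.mem_univ, true_and] at hu' ⊢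
      refine ⟨HH_invS (inv_mem hh) hu'.1, ?_⟩
      obtain ⟨n, hn⟩ := Subgroup.mem_zpowers_iff.1 (hconj7 X (Subgroup.mem_zpowers X))
      have hfix : (h * X * h⁻¹) u = u := by
        rw [← hn]
        exact Subgroup.zpow_mem (MulAction.stabilizer PP u) (hxfix u hu) n
      rw [Equiv.Perm.mul_apply, Equiv.Perm.mul_apply] at hfix
      exact h.injective (hfix.trans (h.apply_symm_apply u).symm)
    have := le_trans (Finset.card_le_card hmap) hXfix
    rwa [Finset.card_image_of_injective _ (h⁻¹).injective] at this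
  have hEfix : ∀ y ∈ F, ∀ g ∈ EE, g y = y := by
    intro y hy g hg
    refine fix_of_small (p := 5) (by norm_num) ?_ (fun z hz => hFinv _ (hE hg) z hz) (by omega) hy
    obtain ⟨m, -, rfl⟩ := hg
    have hcm : Commute (E1 ^ (m / 5)) (E2 ^ (m % 5)) :=
      ((show Commute E1 E2 from E_facts.2.2.1).pow_pow _ _)
    rw [W_elE, hcm.mul_pow, ← pow_mul, ← pow_mul, mul_comm (m / 5), mul_comm (m % 5), pow_mul, pow_mul,
      E_facts.2.2.2.1, E_facts.2.2.2.2, one_pow, one_pow, one_mul]
  have hFone : ∀ y ∈ F, y = pv := fun y hy => by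
    have hy' := hy
    simp only [F, Finset.mem_filter, Finset.mem_univ, true_and] at hy'
    exact EE_fix hy'.1 (hEfix y hy)
  exact Subgroup.eq_of_le_of_card_ge (fun k hk => mem_JJ (hK hk) (hFone _ (hFinv k hk pv hpvF)))
    (by rw [card_JJ, hc])

/-- The subgroups of index 416 are the stabilisers of the 416 points. -/
theorem eq_stab_S {K : Subgroup PP} (hK : K ≤ HH) (hc : Nat.card K = 604800) :
    ∃ y, InM maskS y ∧ K = stabIn HH y := by
  haveI : Fact (Nat.Prime 5) := ⟨by norm_num⟩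
  obtain ⟨R, hR⟩ := Sylow.exists_subgroup_card_pow_prime (G := K) 5 (n := 2) (by rw [hc]; norm_num)
  have hRK : R.map K.subtype ≤ K := Subgroup.map_subtype_le R
  obtain ⟨g, hg, hconj⟩ := conj_of_card (A := EE) (B := R.map K.subtype) (EE_le.trans JJ_le)
    (hRK.trans hK) (card_factor 5 (k := 2) (m := 10063872) (by norm_num) (by norm_num))
    (by rw [card_EE]; norm_num) (by rw [Subgroup.card_map_of_injective K.subtype_injective, hR])
  let K' := K.map (MulAut.conj g⁻¹).toMonoidHom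
  have hK' : K' = JJ := by
    refine eq_JJ_of_EE ?_ ?_ ?_
    · rintro _ ⟨k, hk, rfl⟩
      exact mul_mem (mul_mem (inv_mem hg) (hK hk)) (inv_mem (inv_mem hg))
    · rw [Subgroup.card_map_of_injective (MulAut.conj g⁻¹).injective, hc]
    · intro e he
      exact ⟨g * e * g⁻¹, hRK (hconj e he), by
        show g⁻¹ * (g * e * g⁻¹) * g⁻¹⁻¹ = e
        group⟩
  refine ⟨g pv, HH_invS hg pv_mem, Subgroup.eq_of_le_of_card_ge (fun k hk => ⟨hK hk, ?_⟩) ?_⟩
  · have : g⁻¹ * k * g⁻¹⁻¹ ∈ K' := ⟨k, hk, rfl⟩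
    rw [hK', inv_inv] at this
    have h2 := JJ_fix this
    rw [Equiv.Perm.mul_apply, Equiv.Perm.mul_apply] at h2
    have h3 := congrArg g h2
    rwa [show g (g⁻¹ (k (g pv))) = k (g pv) from g.apply_symm_apply _] at h3
  · rw [card_stab_S (HH_invS hg pv_mem), hc]

end CfsgLib.Recog.Suz1782
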