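import Cfsg.Agent.Lib.Recog.Suz1782.Subgroups

/-!
The graph on the 100 points adjacent to `0` and `995`, and its automorphisms.
-/

set_option autoImplicit false
set_option maxRecDepth 100000

namespace CfsgLib.Recog.Suz1782

open CfsgLib.Recog.McL275

theorem ptsC_lt : (List.range 100).all (fun i => Nat.blt (pim ptsC i) 1782) = true := by decide +kernel

/-- The points of the set of 100. -/
noncomputable def E100 (i : Fin 100) : Fin 1782 := ⟨pim ptsC i % 1782, Nat.mod_lt _ (by norm_num)⟩

theorem E100_val (i : Fin 100) : ((E100 i : Fin 1782) : ℕ) = pim ptsC i :=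
  Nat.mod_eq_of_lt (by
    have := List.all_eq_true.1 ptsC_lt i (List.mem_range.2 i.2)
    rwa [Nat.blt_eq] at this)

theorem ptsC_facts :
    (List.range 100).foldl (fun m i => m ||| (1 <<< pim ptsC i)) 0 = maskC ∧
      ((List.range 100).map (pim ptsC)).Nodup := by
  have h := sets_ok
  simp only [setsOK, Bool.and_eq_true] at h
  exact ⟨Nat.eq_of_beq_eq_true h.1.1.1.2, (freshAll_sound h.1.1.2).1⟩

theorem E100_inj : Function.Injective E100 := by
  intro i j h
  have h' : pim ptsC i = pim ptsC j := by rw [← E100_val, ← E100_val, h]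
  exact Fin.ext (List.inj_on_of_nodup_map ptsC_facts.2 (List.mem_range.2 i.2) (List.mem_range.2 j.2) h')

theorem maskC_iff (x : Fin 1782) : InM maskC x ↔ ∃ i, E100 i = x := by
  rw [InM, ← ptsC_facts.1, testBit_foldl, Bool.or_eq_true, List.any_eq_true]
  constructor
  · rintro (h | ⟨i, hi, h⟩)
    · simp at h
    · rw [Nat.one_shiftLeft, Nat.testBit_two_pow, decide_eq_true_iff] at h
      exact ⟨⟨i, List.mem_range.1 hi⟩, Fin.ext ((E100_val _).trans h)⟩
  · rintro ⟨i, rfl⟩
    refine Or.inr ⟨i, List.mem_range.2 i.2, ?_⟩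
    rw [Nat.one_shiftLeft, Nat.testBit_two_pow, decide_eq_true_iff, E100_val]

theorem E100_mem (i : Fin 100) : InM maskC (E100 i) := (maskC_iff _).2 ⟨i, rfl⟩

theorem JJ_invC {σ : PP} (hσ : σ ∈ JJ) {x : Fin 1782} (hx : InM maskC x) : InM maskC (σ x) := by
  have h := (orbJ_spec (i := 3) (by norm_num)).2.1 σ hσ x
  rw [maskS_eq.2] at h
  exact h hx

/-- A permutation of the points induces one of the 100 points. -/
def Res (σ : PP) (d : Equiv.Perm (Fin 100)) : Prop := ∀ i, σ (E100 i) = E100 (d i)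

theorem Res.mul {σ τ : PP} {c d : Equiv.Perm (Fin 100)} (h : Res σ c) (h' : Res τ d) :
    Res (σ * τ) (c * d) := fun i => by rw [Equiv.Perm.mul_apply, h' i, h]; rfl

theorem Res.inv {σ : PP} {d : Equiv.Perm (Fin 100)} (h : Res σ d) : Res σ⁻¹ d⁻¹ := fun i =>
  σ.injective (by
    rw [show σ (σ⁻¹ (E100 i)) = E100 i from σ.apply_symm_apply _, h,
      show d (d⁻¹ i) = i from d.apply_symm_apply _])

theorem Res.maskC {σ : PP} {d : Equiv.Perm (Fin 100)} (h : Res σ d) {x : Fin 1782} (hx : InM maskC x) :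
    InM maskC (σ x) := by
  obtain ⟨i, rfl⟩ := (maskC_iff x).1 hx
  rw [h]
  exact E100_mem _

/-! ### The swap normalises the Hall-Janko subgroup -/

theorem conj7_gen {k : ℕ} (hk : k < 5) : P 7 * P k * P 7 ∈ JJ := by
  have h := rel_ok
  simp only [relOK, Bool.and_eq_true, List.all_eq_true, List.mem_range] at h
  obtain ⟨⟨⟨e, hb⟩, -⟩, -⟩ := h.1.1.1.1.1.1.1.1.1.1.1 k hk
  have hb' := below_iff.1 hb
  have hk12 : k < 12 := Nat.lt_trans hk (by norm_num)
  have := W_eq (L := [7, k, 7]) (L' := dec (conjW.getD k 0)) (by simp [hk12])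
    (fun a ha => Nat.lt_trans (hb' a ha) (by norm_num)) e
  have hW : W [7, k, 7] = P 7 * P k * P 7 := by simp [W, permL, mul_assoc]
  rw [← hW, this]
  exact W_mem hb'

theorem conj7_mem {σ : PP} (hσ : σ ∈ JJ) : P 7 * σ * P 7 ∈ JJ := by
  have h7 := P_mul_self (k := 7) (by norm_num)
  induction hσ using Subgroup.closure_induction with
  | mem y hy => obtain ⟨k, hk, rfl⟩ := hy; exact conj7_gen hk
  | one => rw [mul_one, h7]; exact one_mem _
  | mul y z _ _ ihy ihz =>
    have : P 7 * (y * z) * P 7 = (P 7 * y * P 7) * (P 7 * z * P 7) := by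
      calc P 7 * (y * z) * P 7 = P 7 * y * 1 * z * P 7 := by group
        _ = P 7 * y * (P 7 * P 7) * z * P 7 := by rw [h7]
        _ = _ := by group
    rw [this]
    exact mul_mem ihy ihz
  | inv y _ ih =>
    have : P 7 * y⁻¹ * P 7 = (P 7 * y * P 7)⁻¹ := by
      rw [mul_inv_rev, mul_inv_rev, inv_eq_of_mul_eq_one_right h7, mul_assoc]
    rw [this]
    exact inv_mem ih

/-- The Hall-Janko subgroup extended by the swap. -/
noncomputable def JJ7 : Subgroup PP where
  carrier := {σ | σ ∈ JJ ∨ P 7 * σ ∈ JJ}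
  one_mem' := Or.inl (one_mem _)
  mul_mem' {x y} hx hy := by
    have h7 := P_mul_self (k := 7) (by norm_num)
    rcases hx with hx | hx <;> rcases hy with hy | hy
    · exact Or.inl (mul_mem hx hy)
    · refine Or.inr ?_
      have : P 7 * (x * y) = (P 7 * x * P 7) * (P 7 * y) := by
        calc P 7 * (x * y) = P 7 * x * 1 * y := by group
          _ = P 7 * x * (P 7 * P 7) * y := by rw [h7]
          _ = _ := by group
      rw [this]
      exact mul_mem (conj7_mem hx) hy
    · refine Or.inr ?_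
      rw [← mul_assoc]
      exact mul_mem hx hy
    · refine Or.inl ?_
      have : x * y = (P 7 * (P 7 * x) * P 7) * (P 7 * y) := by
        calc x * y = 1 * x * 1 * y := by group
          _ = (P 7 * P 7) * x * (P 7 * P 7) * y := by rw [h7]
          _ = _ := by group
      rw [this]
      exact mul_mem (conj7_mem hx) hy
  inv_mem' {x} hx := by
    have h7 := P_mul_self (k := 7) (by norm_num)
    rcases hx with hx | hx
    · exact Or.inl (inv_mem hx)
    · refine Or.inr ?_
      have : P 7 * x⁻¹ = P 7 * (P 7 * x)⁻¹ * P 7 := by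
        rw [mul_inv_rev, mul_assoc, mul_assoc, inv_mul_cancel, mul_one]
      rw [this]
      exact conj7_mem (inv_mem hx)

/-- The six permutations of the 100 points. -/
noncomputable def A100 : Subgroup (Equiv.Perm (Fin 100)) :=
  Subgroup.closure ((fun k => permT 100 (letT gens100 k)) '' Set.Iio 6)

theorem T100_val {k : ℕ} (hk : k < 6) (i : Fin 100) :
    ((permT 100 (letT gens100 k) i : Fin 100) : ℕ) = pim (letT gens100 k) i :=
  permT_val (okGens_let ok100.1 (ok100.2.symm ▸ hk)) i

theorem res_gen {k : ℕ} (hk : k < 6) :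
    Res (P (bif Nat.beq k 5 then 7 else k)) (permT 100 (letT gens100 k)) := by
  intro i
  have h := restrict_ok
  simp only [restrictOK, eagerN_eq, List.all_eq_true, List.mem_range] at h
  refine Fin.ext ?_
  rw [P_val (by cases Nat.beq k 5 <;> simp <;> omega), E100_val, E100_val, T100_val hk]
  exact Nat.eq_of_beq_eq_true (h k hk i i.2)

/-- Each of their products comes from the extended subgroup. -/
theorem exists_res {d : Equiv.Perm (Fin 100)} (hd : d ∈ A100) : ∃ σ ∈ JJ7, Res σ d := by
  induction hd using Subgroup.closure_induction with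
  | mem y hy =>
    obtain ⟨k, hk, rfl⟩ := hy
    refine ⟨_, ?_, res_gen hk⟩
    rcases Nat.lt_succ_iff_lt_or_eq.1 (show k < 6 from hk) with h5 | rfl
    · rw [show Nat.beq k 5 = false from Bool.eq_false_iff.2 fun h => by have := Nat.eq_of_beq_eq_true h; omega]
      exact Or.inl (P_mem h5)
    · refine Or.inr ?_
      show P 7 * P 7 ∈ JJ
      rw [P_mul_self (by norm_num)]
      exact one_mem _
  | one => exact ⟨1, one_mem _, fun i => rfl⟩
  | mul y z _ _ ihy ihz =>
    obtain ⟨σ, hσ, h⟩ := ihy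
    obtain ⟨τ, hτ, h'⟩ := ihz
    exact ⟨σ * τ, mul_mem hσ hτ, h.mul h'⟩
  | inv y _ ih =>
    obtain ⟨σ, hσ, h⟩ := ih
    exact ⟨σ⁻¹, inv_mem hσ, h.inv⟩

theorem A100_le : A100 ≤ autGraph rowC 100 := by
  refine (Subgroup.closure_le _).2 ?_
  rintro _ ⟨k, hk, rfl⟩
  rw [SetLike.mem_coe, mem_autGraph]
  intro x y
  have h := autGens_ok
  simp only [autGensOK, eagerN_eq, List.all_eq_true, List.mem_range] at h
  rw [T100_val hk, T100_val hk]
  exact beq_iff_eq.1 (h k hk x x.2 y y.2)

/-- The automorphisms of the graph are these products. -/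
theorem aut_eq : autGraph rowC 100 = A100 := by
  have hlow : 1209600 ≤ Nat.card A100 := lvl_prods.2.2.2.2.1 ▸
    lvl_le (K := A100) ok100.1 ok100.2.ge (fun k hk => Subgroup.subset_closure ⟨k, hk, rfl⟩) lvlA_ok
  have hup : Nat.card (autGraph rowC 100) < 3 * 604800 := by
    have h := aut_ok
    unfold autOK at h
    cases hb : baseBound rowC 100 baseHJ 0 with
    | none => rw [hb] at h; exact absurd h Bool.false_ne_true
    | some r =>
      obtain ⟨p, M⟩ := r
      rw [hb] at h
      simp only [Bool.and_eq_true, Nat.blt_eq] at h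
      exact lt_of_le_of_lt (card_le_baseBound rowC 100 _ hb rfl h.2 (fun i hi => by simp at hi)
        _ le_rfl (fun σ _ z hz => by simp at hz)) h.1
  have hpos : 0 < Nat.card (autGraph rowC 100) := Nat.card_pos
  obtain ⟨t, ht⟩ := Subgroup.card_dvd_of_le A100_le
  have ht1 : t = 1 := by
    rcases Nat.lt_or_ge t 2 with h2 | h2
    · rcases Nat.eq_zero_or_pos t with rfl | h0
      · omega
      · omega
    · have := Nat.mul_le_mul hlow h2
      omega
  exact (Subgroup.eq_of_le_of_card_ge A100_le (by rw [ht, ht1, mul_one])).symm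

/-- Every automorphism of the graph is induced by the Hall-Janko subgroup, up to the swap. -/
theorem exists_of_aut {d : Equiv.Perm (Fin 100)} (hd : d ∈ autGraph rowC 100) :
    ∃ σ ∈ JJ, Res σ d ∨ Res (P 7 * σ) d := by
  obtain ⟨σ, hσ, h⟩ := exists_res (aut_eq ▸ hd)
  rcases hσ with hσ | hσ
  · exact ⟨σ, hσ, Or.inl h⟩
  · refine ⟨P 7 * σ, hσ, Or.inr ?_⟩
    rwa [← mul_assoc, P_mul_self (by norm_num), one_mul]

/-- The edges are the membership of the carried base set. -/
theorem rowC_iff (i j : Fin 100) {h : PP} (hh : h ∈ HH) (hv : h pv = E100 i) :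
    (rowC i).testBit j = true ↔ InM maskC (h⁻¹ (E100 j)) := by
  have hr := rows_ok
  simp only [rowsOK, eagerN_eq, List.all_eq_true, List.mem_range, Bool.and_eq_true] at hr
  obtain ⟨⟨hb, hpv⟩, hrow⟩ := hr i i.2
  have hb' := below_iff.1 hb
  have h12 : ∀ k ∈ dec (repC.getD i 0), k < 12 := fun k hk => Nat.lt_trans (hb' k hk) (by norm_num)
  let h0 : PP := W (dec (repC.getD i 0))
  have hh0 : h0 ∈ HH := W_mem hb'
  have hv0 : h0 pv = E100 i := by
    refine Fin.ext ?_
    rw [show ((h0 pv : Fin 1782) : ℕ) = actL gensP (dec (repC.getD i 0)) (pv : ℕ) from W_val h12 pv,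
      E100_val]
    exact Nat.eq_of_beq_eq_true hpv
  have hx : h0⁻¹ * h ∈ JJ := mem_JJ (mul_mem (inv_mem hh0) hh) (by
    rw [Equiv.Perm.mul_apply, hv, ← hv0, inv_app])
  have key : (rowC i).testBit j = true ↔ InM maskC (h0⁻¹ (E100 j)) := by
    rw [beq_iff_eq.1 (hrow j j.2), testBit_foldl, Bool.or_eq_true, List.any_eq_true, maskC_iff]
    constructor
    · rintro (e | ⟨a, ha, e⟩)
      · simp at e
      · rw [Nat.one_shiftLeft, Nat.testBit_two_pow, decide_eq_true_iff] at e
        refine ⟨⟨a, List.mem_range.1 ha⟩, h0.injective ?_⟩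
        rw [show h0 (h0⁻¹ (E100 j)) = E100 j from h0.apply_symm_apply _]
        refine Fin.ext ?_
        rw [show ((h0 (E100 ⟨a, _⟩) : Fin 1782) : ℕ) = _ from W_val h12 _, E100_val, E100_val]
        exact e
    · rintro ⟨a, ha⟩
      refine Or.inr ⟨a, List.mem_range.2 a.2, ?_⟩
      rw [Nat.one_shiftLeft, Nat.testBit_two_pow, decide_eq_true_iff, ← E100_val, ← E100_val,
        ← W_val h12, show W (dec (repC.getD i 0)) = h0 from rfl, ha,
        show h0 (h0⁻¹ (E100 j)) = E100 j from h0.apply_symm_apply _]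
  rw [key]
  constructor
  · intro hm
    have := JJ_invC (inv_mem hx) hm
    rwa [← Equiv.Perm.mul_apply, show (h0⁻¹ * h)⁻¹ * h0⁻¹ = h⁻¹ by group] at this
  · intro hm
    have := JJ_invC hx hm
    rwa [← Equiv.Perm.mul_apply, show h0⁻¹ * h * h⁻¹ = h0⁻¹ by group] at this

end CfsgLib.Recog.Suz1782
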