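import Cfsg.Agent.Lib.Recog.Suz1782.Defs
import Cfsg.Agent.Lib.Recog.Suz1782.DataGens
import Cfsg.Agent.Lib.Recog.Suz1782.DataWords
import Cfsg.Agent.Lib.Recog.Suz1782.DataMasks
import Cfsg.Agent.Lib.Recog.Suz1782.DataOrbits

/-!
The fixed point sets of the 2080 subgroups of order 3 and their images.
-/

set_option autoImplicit false
set_option maxRecDepth 100000
set_option maxHeartbeats 0
set_option Elab.async false

namespace CfsgLib.Recog.Suz1782

open CfsgLib.Recog.McL275 (eagerN)
open CfsgLib.InvChar.Coset (Tr)

/-- A fixed point set. -/
noncomputable def mask (i : ℕ) : ℕ := triMask.get i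

/-- Its points. -/
noncomputable def ptsF (i : ℕ) : List ℕ := eagerN (triPts.get i) fun c => (List.range 56).map (pim c)

/-- The image of a set under a generator. -/
noncomputable def tab (i k : ℕ) : ℕ := (triTab.get i >>> (12 * k)) % 4096

/-- The points of a set are its bits. -/
noncomputable def maskOK : Bool :=
  (List.range 2080).all fun i => eagerN (mask i) fun M =>
    Nat.beq (List.foldl (fun m p => m ||| (1 <<< p)) 0 (ptsF i)) M && Nat.beq (M &&& maskS) M

theorem mask_ok : maskOK = true := by decide +kernel

/-- A generator carries a set into its image. -/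
noncomputable def transOK (k : ℕ) : Bool :=
  eagerN (letT gensP k) fun c => (List.range 2080).all fun i => eagerN (tab i k) fun j =>
    Nat.blt j 2080 && Nat.beq (tab j k) i &&
      eagerN (mask j) fun M => (ptsF i).all fun p => M.testBit (pim c p)

end CfsgLib.Recog.Suz1782
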