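import Cfsg.Agent.Lib.Recog.Suz1782.MasksDefs

/-!
The generators permute the fixed point sets.
-/

set_option autoImplicit false
set_option maxRecDepth 100000
set_option maxHeartbeats 0
set_option Elab.async false

namespace CfsgLib.Recog.Suz1782

open CfsgLib.Recog.McL275 (eagerN)
open CfsgLib.InvChar.Coset (Tr)

theorem trans0_ok : transOK 0 = true := by decide +kernel

theorem trans1_ok : transOK 1 = true := by decide +kernel

theorem trans2_ok : transOK 2 = true := by decide +kernel

end CfsgLib.Recog.Suz1782
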