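import Cfsg.Agent.Lib.InvChar.SporSuzSimple
import Cfsg.Agent.Lib.InvChar.SporSuzG2Simple
import Cfsg.Agent.Lib.Recog.G2FourModule
import Cfsg.Agent.Lib.Recog.Suz1782.Checks
import Cfsg.Agent.Lib.Recog.Suz1782.ChecksLocal

/-!
The model: the presented Suzuki group on 1782 points, its point stabiliser `G₂(4)`, and the
Hall-Janko subgroup fixing a second point.
-/

set_option autoImplicit false
set_option maxRecDepth 100000

namespace CfsgLib.Recog.Suz1782

open CfsgLib.InvChar CfsgLib.InvChar.Coset CfsgLib.Recog.McL275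

/-- Permutations of the 1782 points. -/
abbrev PP : Type := Equiv.Perm (Fin 1782)

/-- A listed permutation. -/
noncomputable abbrev P (k : ℕ) : PP := permT 1782 (letT gensP k)

/-- The product along a word. -/
noncomputable abbrev W (L : List ℕ) : PP := permL 1782 gensP L

theorem okP : okGens 1782 gensP = true ∧ gensP.length = 12 := by
  have h := basic_ok
  simp only [basicOK, Bool.and_eq_true] at h
  exact ⟨h.1.1.1, Nat.eq_of_beq_eq_true h.1.1.2⟩

theorem ok100 : okGens 100 gens100 = true ∧ gens100.length = 6 := by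
  have h := basic_ok
  simp only [basicOK, Bool.and_eq_true] at h
  exact ⟨h.1.2, Nat.eq_of_beq_eq_true h.2⟩

theorem P_val {k : ℕ} (hk : k < 12) (x : Fin 1782) : ((P k x : Fin 1782) : ℕ) = pim (letT gensP k) x :=
  permT_val (okGens_let okP.1 (okP.2.symm ▸ hk)) x

theorem W_val {L : List ℕ} (hL : ∀ k ∈ L, k < 12) (x : Fin 1782) :
    ((W L x : Fin 1782) : ℕ) = actL gensP L x :=
  permL_val okP.1 (fun k hk => okP.2.symm ▸ hL k hk) x

theorem W_eq {L L' : List ℕ} (hL : ∀ k ∈ L, k < 12) (hL' : ∀ k ∈ L', k < 12)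
    (h : eqWords 1782 gensP L L' = true) : W L = W L' :=
  eqWords_sound okP.1 (fun k hk => okP.2.symm ▸ hL k hk) (fun k hk => okP.2.symm ▸ hL' k hk) h

theorem P_mul_self {k : ℕ} (hk : k < 12) : P k * P k = 1 := by
  rcases lt_or_ge k 7 with h7 | h7
  · refine Equiv.ext fun x => Fin.ext ?_
    have ht := table_ok
    simp only [tableOK, eagerN_eq, List.all_eq_true, List.mem_range] at ht
    rw [Equiv.Perm.mul_apply, P_val hk, P_val hk, Nat.eq_of_beq_eq_true (ht k h7 x x.2)]
    have hlt : SuzA.table.app x k < 1782 := SuzA.valid.range x x.2 k h7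
    rw [Nat.eq_of_beq_eq_true (ht k h7 _ hlt)]
    have h := SuzA.valid.points x x.2 _ (SuzA.sq k h7)
    have h' : force (SuzA.table.app x k) (fun j => force (SuzA.table.app j k) fun j' => j') = (x : ℕ) := h
    simpa [force_eq] using h'
  · have h := rel_ok
    simp only [relOK, Bool.and_eq_true, List.all_eq_true] at h
    have e := h.1.1.1.1.1.1.1.1.2 k (by simp [extraL]; omega)
    have := W_eq (L := [k, k]) (L' := []) (by simp [hk]) (by simp) e
    simpa [W, permL] using this

theorem W_reverse : ∀ {L : List ℕ}, (∀ k ∈ L, k < 12) → W L.reverse = (W L)⁻¹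
  | [], _ => by simp [W, permL]
  | k :: L, h => by
    have ih := W_reverse (L := L) fun x hx => h x (List.mem_cons_of_mem _ hx)
    rw [List.reverse_cons]
    change permL 1782 gensP (L.reverse ++ [k]) = (P k * W L)⁻¹
    rw [permL_append, permL_single, mul_inv_rev]
    change W L.reverse * P k = (W L)⁻¹ * (P k)⁻¹
    rw [ih, inv_eq_of_mul_eq_one_right (P_mul_self (h k (List.mem_cons_self ..)))]

theorem inv_app (σ : PP) (x : Fin 1782) : σ⁻¹ (σ x) = x := σ.symm_apply_apply x

/-- The generated group of some letters. -/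
noncomputable def genK (m : ℕ) : Subgroup PP := Subgroup.closure (P '' Set.Iio m)

theorem P_mem {m k : ℕ} (hk : k < m) : P k ∈ genK m := Subgroup.subset_closure ⟨k, hk, rfl⟩

theorem W_mem {m : ℕ} {L : List ℕ} (hL : ∀ k ∈ L, k < m) : W L ∈ genK m :=
  permL_mem (fun k hk => P_mem hk) hL

/-- The point stabiliser. -/
noncomputable abbrev HH : Subgroup PP := genK 6

/-- The Hall-Janko subgroup. -/
noncomputable abbrev JJ : Subgroup PP := genK 5

theorem JJ_le : JJ ≤ HH :=
  Subgroup.closure_mono (Set.image_mono (Set.Iio_subset_Iio (by norm_num)))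

/-- The base point. -/
def p0 : Fin 1782 := ⟨0, by norm_num⟩

/-- The second point. -/
def pv : Fin 1782 := ⟨995, by norm_num⟩

/-- The membership in a marked set. -/
def InM (M : ℕ) (x : Fin 1782) : Prop := M.testBit x = true

theorem HH_fix {σ : PP} (hσ : σ ∈ HH) : σ p0 = p0 := by
  have hle : HH ≤ MulAction.stabilizer PP p0 := by
    refine (Subgroup.closure_le _).2 ?_
    rintro _ ⟨k, hk, rfl⟩
    have h := fix_ok
    simp only [fixOK, Bool.and_eq_true, List.all_eq_true, List.mem_range] at h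
    exact Fin.ext (by
      show ((P k p0 : Fin 1782) : ℕ) = 0
      rw [P_val (Nat.lt_trans hk (by norm_num))]
      exact Nat.eq_of_beq_eq_true (h.1 k hk))
  exact hle hσ

theorem JJ_fix {σ : PP} (hσ : σ ∈ JJ) : σ pv = pv := by
  have hle : JJ ≤ MulAction.stabilizer PP pv := by
    refine (Subgroup.closure_le _).2 ?_
    rintro _ ⟨k, hk, rfl⟩
    have h := fix_ok
    simp only [fixOK, Bool.and_eq_true, List.all_eq_true, List.mem_range] at h
    exact Fin.ext (by
      show ((P k pv : Fin 1782) : ℕ) = 995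
      rw [P_val (Nat.lt_trans hk (by norm_num))]
      exact Nat.eq_of_beq_eq_true (h.2 k hk))
  exact hle hσ

/-- The presented subgroup mapping onto the point stabiliser. -/
theorem exists_pre : ∃ φ : SporSuzG2.Pre →* PP, Function.Injective φ ∧ φ.range = HH := by
  obtain ⟨ψ, hψ⟩ := SporSuzG2.exists_hom SporSuz.gen fun r hr =>
    SporSuz.pres.gen_rel r ((by decide +kernel : ∀ r ∈ SuzB.rels, r ∈ SuzA.rels) r hr)
  let φ : SporSuzG2.Pre →* PP := SporSuz.rep.comp ψ
  have hφ : ∀ i < 6, φ (SporSuzG2.gen i) = P i := fun i hi => by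
    show SporSuz.rep (ψ (SporSuzG2.gen i)) = _
    rw [hψ i hi, SporSuz.rep_gen i (by omega)]
    refine Equiv.ext fun x => Fin.ext ?_
    have ht := table_ok
    simp only [tableOK, eagerN_eq, List.all_eq_true, List.mem_range] at ht
    exact (SuzA.valid.toPerm_apply SuzA.sq (show i < 7 by omega) x).trans
      ((Nat.eq_of_beq_eq_true (ht i (by omega) x x.2)).symm.trans (P_val (by omega) (x : Fin 1782)).symm)
  have hrange : φ.range = HH := by
    rw [MonoidHom.range_eq_map, ← SporSuzG2.closure_gen, MonoidHom.map_closure, HH, genK, ← Set.image_comp]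
    exact congrArg Subgroup.closure (Set.image_congr fun i hi => hφ i hi)
  refine ⟨φ, ?_, hrange⟩
  haveI := SporSuzG2.isSimpleGroup
  rw [← MonoidHom.ker_eq_bot_iff]
  refine ((inferInstance : φ.ker.Normal).eq_bot_or_eq_top).resolve_right fun htop => ?_
  obtain ⟨x, hx⟩ : ∃ x : Fin 1782, pim (letT gensP 0) x ≠ x :=
    ⟨⟨(List.range 1782).findIdx fun x => !Nat.beq (pim (letT gensP 0) x) x, by decide +kernel⟩,
      by decide +kernel⟩
  have h1 : φ (SporSuzG2.gen 0) = 1 := by rw [← MonoidHom.mem_ker, htop]; trivial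
  rw [hφ 0 (by norm_num)] at h1
  apply hx
  rw [← P_val (by norm_num) x, h1]
  rfl

theorem card_HH : Nat.card HH = 251596800 := by
  obtain ⟨φ, hφ, hr⟩ := exists_pre
  rw [← hr, ← Nat.card_congr (MonoidHom.ofInjective hφ).toEquiv, SporSuzG2.card_eq.1]

/-- The point stabiliser is the Chevalley group. -/
theorem exists_HH_iso (K : Type) [Field K] [Fintype K] (hK : Fintype.card K = 4) :
    Nonempty (↥HH ≃* ↥(Cfsg.Lie.chevG2.group K)) := by
  obtain ⟨φ, hφ, hr⟩ := exists_pre
  obtain ⟨e1⟩ := CfsgLib.Recog.G2Four.nonempty_pre_equiv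
  haveI : CharP FQ4 2 := charP_of_card_eq_prime_pow (f := 2) FQ4.card_eq
  obtain ⟨e2⟩ := CfsgLib.Recog.G2Four.nonempty_group_congr
    (FiniteField.ringEquivOfCardEq (K := K) (K' := FQ4) (by rw [hK, FQ4.card_eq]))
  exact ⟨(MulEquiv.subgroupCongr hr.symm).trans
    ((MonoidHom.ofInjective hφ).symm.trans (e1.trans e2.symm))⟩

/-! ### Orbits -/

/-- The entry of an orbit list. -/
def entry (L : List (ℕ × ℕ × ℕ × List (ℕ × ℕ × ℕ))) (i : ℕ) : ℕ × ℕ × ℕ × List (ℕ × ℕ × ℕ) :=
  L.getD i (0, 0, 0, [])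

/-- The number of points of a set. -/
noncomputable def cnt (M : ℕ) : ℕ := (Finset.univ.filter fun x : Fin 1782 => M.testBit x = true).card

theorem cnt_pop {M : ℕ} (hM : ∀ i, 1782 ≤ i → M.testBit i = false) : cnt M = popN 223 M := by
  classical
  rw [popN_card (k := 1784) rfl, cnt]
  refine Finset.card_bij (fun x _ => (⟨x, by omega⟩ : Fin 1784)) (fun x hx => ?_) (fun x _ y _ h => ?_)
    (fun y hy => ?_)
  · simpa using hx
  · exact Fin.ext (congrArg Fin.val h :)
  · simp only [Finset.mem_filter, Finset.mem_univ, true_and] at hy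
    have hlt : (y : ℕ) < 1782 := by
      by_contra h
      rw [hM y (by omega)] at hy
      exact Bool.false_ne_true hy
    exact ⟨⟨y, hlt⟩, by simpa using hy, rfl⟩

theorem testBit_foldl {α : Type} (f : α → ℕ) : ∀ (L : List α) (m j : ℕ),
    (L.foldl (fun m e => m ||| f e) m).testBit j = (m.testBit j || L.any fun e => (f e).testBit j)
  | [], m, j => by simp
  | e :: L, m, j => by
    rw [List.foldl_cons, testBit_foldl f L, Nat.testBit_or, List.any_cons, Bool.or_assoc]

/-- What the check of an orbit list gives for an entry. -/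
theorem orbits_entry {step : ℕ → ℕ → ℕ → Bool} {img : ℕ → List ℕ} {all : ℕ}
    {L : List (ℕ × ℕ × ℕ × List (ℕ × ℕ × ℕ))} (h : orbitsOK step img all L = true)
    (hall : ∀ i, 1782 ≤ i → all.testBit i = false) {i : ℕ} (hi : i < L.length) :
    cnt (entry L i).2.2.1 = (entry L i).2.1 ∧ (entry L i).2.2.1.testBit (entry L i).1 = true ∧
      (∀ x : Fin 1782, InM (entry L i).2.2.1 x → ∀ y ∈ img x, (entry L i).2.2.1.testBit y = true) ∧
      (∀ P' : ℕ → Prop, (∀ x k y, step x k y = true → P' x → P' y) → P' (entry L i).1 →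
        ∀ x : Fin 1782, InM (entry L i).2.2.1 x → P' x) ∧
      ∀ j, (entry L i).2.2.1.testBit j = true → all.testBit j = true := by
  simp only [orbitsOK, Bool.and_eq_true, List.all_eq_true, List.mem_range] at h
  obtain ⟨⟨hL, hcov⟩, -⟩ := h
  have hm : entry L i ∈ L := by
    rw [entry, List.getD_eq_getElem _ _ hi]; exact List.getElem_mem _
  obtain ⟨⟨⟨hc, hp⟩, hr⟩, hinv⟩ := hL _ hm
  have hsub : ∀ j, (entry L i).2.2.1.testBit j = true → all.testBit j = true := fun j hj => by
    rw [← Nat.eq_of_beq_eq_true hcov, testBit_foldl, Bool.or_eq_true, List.any_eq_true]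
    exact Or.inr ⟨_, hm, hj⟩
  refine ⟨?_, hr, fun x hx y hy => ?_, fun P' hs h0 x hx => closesTo_sound hc hs h0 x hx, hsub⟩
  · rw [cnt_pop fun j hj => ?_]
    · exact Nat.eq_of_beq_eq_true hp
    · by_contra hb
      rw [Bool.not_eq_false] at hb
      exact Bool.false_ne_true ((hall j hj).symm.trans (hsub j hb))
  · have := hinv x x.2
    rw [hx, Bool.not_true, Bool.false_or, List.all_eq_true] at this
    exact this y hy

theorem testBit_full {i : ℕ} (h : 1782 ≤ i) : (2 ^ 1782 - 1).testBit i = false := by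
  rw [Nat.testBit_two_pow_sub_one]; simp; omega

theorem testBit_maskS {i : ℕ} (h : 1782 ≤ i) : maskS.testBit i = false := by
  refine Nat.testBit_lt_two_pow (lt_of_lt_of_le ?_ (Nat.pow_le_pow_right (by norm_num) h))
  decide +kernel

/-- A set invariant under the letters is invariant under the generated group. -/
theorem genK_inv {m : ℕ} (hm : m ≤ 12) {M : ℕ}
    (h : ∀ x : Fin 1782, InM M x → ∀ k < m, M.testBit (pim (letT gensP k) x) = true)
    {σ : PP} (hσ : σ ∈ genK m) {x : Fin 1782} (hx : InM M x) : InM M (σ x) := by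
  induction hσ using Subgroup.closure_induction generalizing x with
  | mem y hy =>
    obtain ⟨k, hk, rfl⟩ := hy
    show M.testBit _ = true
    rw [P_val (lt_of_lt_of_le hk hm)]
    exact h x hx k hk
  | one => exact hx
  | mul y z _ _ ihy ihz => exact ihy (ihz hx)
  | inv y hy ih =>
    classical
    let T : Finset (Fin 1782) := Finset.univ.filter fun z => InM M z
    have hT : T.image y = T := Finset.eq_of_subset_of_card_le (fun z hz => by
      obtain ⟨w, hw, rfl⟩ := Finset.mem_image.1 hz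
      simp only [T, Finset.mem_filter, Finset.mem_univ, true_and] at hw ⊢
      exact ih hw) (le_of_eq (Finset.card_image_of_injective _ y.injective).symm)
    have hx' : x ∈ T.image y := by rw [hT]; simp [T, hx]
    obtain ⟨w, hw, rfl⟩ := Finset.mem_image.1 hx'
    rw [inv_app]
    simpa [T] using hw

theorem orbH_length : orbH.length = 3 ∧ orbJ.length = 6 ∧ orbMS.length = 9 := by decide +kernel

/-- The orbits of the point stabiliser. -/
theorem orbH_spec {i : ℕ} (hi : i < 3) :
    cnt (entry orbH i).2.2.1 = (entry orbH i).2.1 ∧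
      (∀ σ ∈ HH, ∀ x, InM (entry orbH i).2.2.1 x → InM (entry orbH i).2.2.1 (σ x)) ∧
      ∀ x y, InM (entry orbH i).2.2.1 x → InM (entry orbH i).2.2.1 y → ∃ σ ∈ HH, σ x = y := by
  obtain ⟨h1, h2, h3, h4, -⟩ := orbits_entry orbH_ok (fun j hj => testBit_full hj)
    (orbH_length.1.symm ▸ hi)
  refine ⟨h1, fun σ hσ x hx => genK_inv (by norm_num) (fun z hz k hk =>
    h3 z hz _ (List.mem_map.2 ⟨k, List.mem_range.2 hk, rfl⟩)) hσ hx, fun x y hx hy => ?_⟩
  have hreach := h4 (fun z => ∃ σ ∈ HH, ∃ r : Fin 1782, (r : ℕ) = (entry orbH i).1 ∧ ((σ r : Fin 1782) : ℕ) = z)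
    (fun a k b hs ⟨σ, hσ, r, hr, e⟩ => by
      simp only [stepL, Bool.and_eq_true, Nat.blt_eq] at hs
      refine ⟨P k * σ, mul_mem (P_mem hs.1) hσ, r, hr, ?_⟩
      rw [Equiv.Perm.mul_apply, P_val (Nat.lt_trans hs.1 (by norm_num)), e]
      exact Nat.eq_of_beq_eq_true hs.2)
    (by
      have hlt : (entry orbH i).1 < 1782 := by
        by_contra hb
        have := (orbits_entry orbH_ok (fun j hj => testBit_full hj) (orbH_length.1.symm ▸ hi)).2.2.2.2 _ h2
        rw [testBit_full (Nat.not_lt.1 hb)] at this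
        exact Bool.false_ne_true this
      exact ⟨1, one_mem _, ⟨_, hlt⟩, rfl, rfl⟩)
  obtain ⟨σ, hσ, r, hr, e⟩ := hreach x hx
  obtain ⟨τ, hτ, r', hr', e'⟩ := hreach y hy
  refine ⟨τ * σ⁻¹, mul_mem hτ (inv_mem hσ), ?_⟩
  have ex : σ r = x := Fin.ext e
  have ey : τ r' = y := Fin.ext e'
  rw [← ex, Equiv.Perm.mul_apply, inv_app, Fin.ext (hr.trans hr'.symm), ey]

/-- The orbits of the Hall-Janko subgroup. -/
theorem orbJ_spec {i : ℕ} (hi : i < 6) :
    cnt (entry orbJ i).2.2.1 = (entry orbJ i).2.1 ∧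
      (∀ σ ∈ JJ, ∀ x, InM (entry orbJ i).2.2.1 x → InM (entry orbJ i).2.2.1 (σ x)) ∧
      (∀ x y, InM (entry orbJ i).2.2.1 x → InM (entry orbJ i).2.2.1 y → ∃ σ ∈ JJ, σ x = y) ∧
      (entry orbJ i).2.2.1.testBit (entry orbJ i).1 = true := by
  obtain ⟨h1, h2, h3, h4, h5⟩ := orbits_entry orbJ_ok (fun j hj => testBit_full hj)
    (orbH_length.2.1.symm ▸ hi)
  refine ⟨h1, fun σ hσ x hx => genK_inv (by norm_num) (fun z hz k hk =>
    h3 z hz _ (List.mem_map.2 ⟨k, List.mem_range.2 hk, rfl⟩)) hσ hx, fun x y hx hy => ?_, h2⟩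
  have hreach := h4 (fun z => ∃ σ ∈ JJ, ∃ r : Fin 1782, (r : ℕ) = (entry orbJ i).1 ∧ ((σ r : Fin 1782) : ℕ) = z)
    (fun a k b hs ⟨σ, hσ, r, hr, e⟩ => by
      simp only [stepL, Bool.and_eq_true, Nat.blt_eq] at hs
      refine ⟨P k * σ, mul_mem (P_mem hs.1) hσ, r, hr, ?_⟩
      rw [Equiv.Perm.mul_apply, P_val (Nat.lt_trans hs.1 (by norm_num)), e]
      exact Nat.eq_of_beq_eq_true hs.2)
    (by
      have hlt : (entry orbJ i).1 < 1782 := by
        by_contra hb
        have := h5 _ h2
        rw [testBit_full (Nat.not_lt.1 hb)] at this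
        exact Bool.false_ne_true this
      exact ⟨1, one_mem _, ⟨_, hlt⟩, rfl, rfl⟩)
  obtain ⟨σ, hσ, r, hr, e⟩ := hreach x hx
  obtain ⟨τ, hτ, r', hr', e'⟩ := hreach y hy
  refine ⟨τ * σ⁻¹, mul_mem hτ (inv_mem hσ), ?_⟩
  have ex : σ r = x := Fin.ext e
  have ey : τ r' = y := Fin.ext e'
  rw [← ex, Equiv.Perm.mul_apply, inv_app, Fin.ext (hr.trans hr'.symm), ey]

end CfsgLib.Recog.Suz1782
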