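import Cfsg.Agent.Lib.Recog.Suz1782.Local
import Cfsg.Agent.Lib.Recog.Suz1782.Final
import Cfsg.Agent.Lib.Recog.Suz1782.IndexBig
import Cfsg.Agent.Lib.Recog.Suz1782.IndexSmall

/-!
A rank 3 group with point stabiliser `G₂(4)` and suborbits of lengths 416 and 1365 is the model.
-/

set_option autoImplicit false
set_option maxRecDepth 100000

namespace CfsgLib.Recog.Suz1782

open CfsgLib.Recog.McL275

variable {Ω : Type*}

/-- The orbit of a point under a representation of the point stabiliser. -/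
def Orb (ψ : ↥HH →* Equiv.Perm Ω) (x : Ω) : Set Ω := Set.range fun σ => ψ σ x

/-- The points of the model stabilising a point. -/
noncomputable def stabK (ψ : ↥HH →* Equiv.Perm Ω) (x : Ω) : Subgroup PP :=
  ((MulAction.stabilizer (Equiv.Perm Ω) x).comap ψ).map HH.subtype

theorem stabK_le (ψ : ↥HH →* Equiv.Perm Ω) (x : Ω) : stabK ψ x ≤ HH := Subgroup.map_subtype_le _

theorem mem_stabK {ψ : ↥HH →* Equiv.Perm Ω} {x : Ω} {σ : ↥HH} : (σ : PP) ∈ stabK ψ x ↔ ψ σ x = x := by
  constructor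
  · rintro ⟨τ, hτ, e⟩
    rw [← Subtype.ext (show (τ : PP) = σ from e)]
    exact hτ
  · exact fun h => ⟨σ, h, rfl⟩

theorem card_stabK [Finite Ω] (ψ : ↥HH →* Equiv.Perm Ω) (x : Ω) :
    Nat.card (stabK ψ x) * (Orb ψ x).ncard = 251596800 := by
  letI := MulAction.compHom Ω ψ
  have h := Subgroup.card_mul_index (MulAction.stabilizer ↥HH x)
  rw [MulAction.index_stabilizer] at h
  rw [stabK, Subgroup.card_map_of_injective HH.subtype_injective, ← card_HH]
  exact h

theorem self_mem_Orb (ψ : ↥HH →* Equiv.Perm Ω) (x : Ω) : x ∈ Orb ψ x := ⟨1, by simp⟩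

theorem Orb_inv {ψ : ↥HH →* Equiv.Perm Ω} {x y : Ω} (h : y ∈ Orb ψ x) (σ : ↥HH) : ψ σ y ∈ Orb ψ x := by
  obtain ⟨τ, rfl⟩ := h
  exact ⟨σ * τ, by simp⟩

theorem Orb_eq {ψ : ↥HH →* Equiv.Perm Ω} {x y : Ω} (h : y ∈ Orb ψ x) : Orb ψ y = Orb ψ x := by
  obtain ⟨τ, rfl⟩ := h
  ext z
  constructor
  · rintro ⟨σ, rfl⟩
    exact ⟨σ * τ, by simp⟩
  · rintro ⟨σ, rfl⟩
    exact ⟨σ * τ⁻¹, by simp⟩

theorem inv_app' {k : Equiv.Perm Ω} {x : Ω} : k⁻¹ (k x) = x := k.symm_apply_apply x

theorem maskS_split :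
    ((List.range 1782).all fun x =>
      maskS.testBit x == (Nat.beq x 995 || maskC.testBit x || (OJ 4).testBit x)) = true ∧
    maskC &&& OJ 4 = 0 ∧ maskC.testBit 995 = false ∧ (OJ 4).testBit 995 = false := by
  refine ⟨?_, ?_, ?_, ?_⟩ <;> decide +kernel

theorem maskS_cases {x : Fin 1782} :
    InM maskS x ↔ x = pv ∨ InM maskC x ∨ InM (OJ 4) x := by
  have h := beq_iff_eq.1 (List.all_eq_true.1 maskS_split.1 x (List.mem_range.2 x.2))
  rw [InM, h, Bool.or_eq_true, Bool.or_eq_true]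
  constructor
  · rintro ((h | h) | h)
    · exact Or.inl (Fin.ext (Nat.eq_of_beq_eq_true h))
    · exact Or.inr (Or.inl h)
    · exact Or.inr (Or.inr h)
  · rintro (rfl | h | h)
    · exact Or.inl (Or.inl (Nat.beq_refl _))
    · exact Or.inl (Or.inr h)
    · exact Or.inr h

theorem not_C_O4 {x : Fin 1782} (h : InM maskC x) : ¬ InM (OJ 4) x := fun h' => by
  have := congrArg (fun m : ℕ => m.testBit x) maskS_split.2.1
  simp only [Nat.testBit_and, Nat.zero_testBit] at this
  rw [show maskC.testBit x = true from h, show (OJ 4).testBit x = true from h'] at this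
  exact absurd this (by simp)

theorem cnt_C_O4 : cnt maskC = 100 ∧ cnt (OJ 4) = 315 := by
  obtain ⟨h3, -⟩ := orbJ_spec (i := 3) (by norm_num)
  obtain ⟨h4, -⟩ := orbJ_spec (i := 4) (by norm_num)
  rw [maskS_eq.2, orb_sizes.2.2.1] at h3
  rw [orb_sizes.2.2.2] at h4
  exact ⟨h3, h4⟩

theorem res7 : Res (P 7) (permT 100 (letT gens100 5)) := res_gen (k := 5) (by norm_num)

/-- The model's point stabiliser embedded in a transitive group as the stabiliser of a point. -/
structure Setup (G : Subgroup (Equiv.Perm Ω)) (a : Ω) (ψ : ↥HH →* Equiv.Perm Ω) : Prop where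
  inj : Function.Injective ψ
  mem : ∀ σ, ψ σ ∈ G
  fix : ∀ σ, ψ σ a = a
  surj : ∀ g ∈ G, g a = a → ∃ σ, ψ σ = g
  trans : ∀ x, ∃ g ∈ G, g a = x

variable {G : Subgroup (Equiv.Perm Ω)} {a b c : Ω} {ψ : ↥HH →* Equiv.Perm Ω}

theorem Setup.card_G [Fintype Ω] (S : Setup G a ψ) (hΩ : Fintype.card Ω = 1782) :
    Nat.card G = 448345497600 := by
  have h := Subgroup.card_mul_index (MulAction.stabilizer G a)
  have e1 : Nat.card (MulAction.stabilizer G a) = 251596800 := by
    rw [← card_HH]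
    refine Nat.card_congr (Equiv.ofBijective (fun σ => (⟨⟨ψ σ, S.mem σ⟩, S.fix σ⟩ :
      MulAction.stabilizer G a)) ⟨fun σ τ e => S.inj ?_, fun g => ?_⟩).symm
    · exact congrArg (fun u : MulAction.stabilizer G a => ((u : G) : Equiv.Perm Ω)) e
    · obtain ⟨σ, hσ⟩ := S.surj g.1.1 g.1.2 g.2
      exact ⟨σ, Subtype.ext (Subtype.ext hσ)⟩
  rw [MulAction.index_stabilizer, e1] at h
  have e2 : (MulAction.orbit G a).ncard = 1782 := by
    rw [show MulAction.orbit G a = Set.univ from Set.eq_univ_of_forall fun x => by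
      obtain ⟨g, hg, e⟩ := S.trans x
      exact ⟨⟨g, hg⟩, e⟩, Set.ncard_univ, Nat.card_eq_fintype_card, hΩ]
  rw [e2] at h
  omega

/-- The points are the base point and two orbits. -/
theorem Setup.three [Fintype Ω] (S : Setup G a ψ) (hΩ : Fintype.card Ω = 1782)
    (hb : (Orb ψ b).ncard = 416) (hc : (Orb ψ c).ncard = 1365) :
    a ∉ Orb ψ b ∧ a ∉ Orb ψ c ∧ Disjoint (Orb ψ b) (Orb ψ c) ∧
      ∀ x, x = a ∨ x ∈ Orb ψ b ∨ x ∈ Orb ψ c := by
  have ha : Orb ψ a = {a} := by
    ext x
    simp only [Orb, S.fix, Set.range_const, Set.mem_singleton_iff]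
  have hab : a ∉ Orb ψ b := fun h => by
    rw [← Orb_eq h, ha, Set.ncard_singleton] at hb
    omega
  have hac : a ∉ Orb ψ c := fun h => by
    rw [← Orb_eq h, ha, Set.ncard_singleton] at hc
    omega
  have hbc : Disjoint (Orb ψ b) (Orb ψ c) := Set.disjoint_left.2 fun x hx hx' => by
    rw [← Orb_eq hx, Orb_eq hx', hc] at hb
    omega
  refine ⟨hab, hac, hbc, fun x => ?_⟩
  have hu : insert a (Orb ψ b ∪ Orb ψ c) = Set.univ := by
    refine Set.eq_of_subset_of_ncard_le (Set.subset_univ _) ?_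
    rw [Set.ncard_univ, Nat.card_eq_fintype_card, hΩ, Set.ncard_insert_of_notMem
      (by simp [hab, hac]), Set.ncard_union_eq hbc, hb, hc]
  have := (Set.ext_iff.1 hu x).2 trivial
  simpa using this

/-- A point of the short orbit whose stabiliser is the Hall-Janko subgroup. -/
theorem exists_base [Finite Ω] (hb : (Orb ψ b).ncard = 416) :
    ∃ b', Orb ψ b' = Orb ψ b ∧ ∀ σ : ↥HH, ψ σ b' = b' ↔ (σ : PP) ∈ JJ := by
  have hk := card_stabK ψ b
  rw [hb] at hk
  obtain ⟨y, hy, hK⟩ := eq_stab_S (stabK_le ψ b) (by omega)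
  obtain ⟨h, hh, hy'⟩ := HH_transS pv_mem hy
  refine ⟨ψ ⟨h, hh⟩⁻¹ b, Orb_eq ⟨_, rfl⟩, fun σ => ?_⟩
  have e : ψ σ (ψ ⟨h, hh⟩⁻¹ b) = ψ ⟨h, hh⟩⁻¹ b ↔ ψ (⟨h, hh⟩ * σ * ⟨h, hh⟩⁻¹) b = b := by
    rw [map_mul, map_mul, Equiv.Perm.mul_apply, Equiv.Perm.mul_apply, map_inv]
    constructor
    · intro e; rw [e]; exact (ψ ⟨h, hh⟩).apply_symm_apply b
    · intro e
      refine (ψ ⟨h, hh⟩).injective (e.trans ?_)
      exact ((ψ ⟨h, hh⟩).apply_symm_apply b).symm
  rw [e, ← mem_stabK, hK, mem_stabIn, JJ_eq, mem_stabIn]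
  constructor
  · rintro ⟨-, hv⟩
    refine ⟨σ.2, ?_⟩
    simp only [Subgroup.coe_mul, Subgroup.coe_inv, ← hy', Equiv.Perm.mul_apply, inv_app] at hv
    exact h.injective hv
  · rintro ⟨-, hv⟩
    refine ⟨SetLike.coe_mem _, ?_⟩
    simp only [Subgroup.coe_mul, Subgroup.coe_inv, ← hy', Equiv.Perm.mul_apply, inv_app, hv]

/-- The short orbit parametrised by the 416 points of the model. -/
theorem exists_fS {b' : Ω} (hst : ∀ σ : ↥HH, ψ σ b' = b' ↔ (σ : PP) ∈ JJ) :
    ∃ f : Fin 1782 → Ω, f pv = b' ∧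
      (∀ σ : ↥HH, ∀ x, InM maskS x → f ((σ : PP) x) = ψ σ (f x)) ∧
      (∀ x y, InM maskS x → InM maskS y → f x = f y → x = y) ∧
      (∀ x, InM maskS x → f x ∈ Orb ψ b') ∧ ∀ w ∈ Orb ψ b', ∃ x, InM maskS x ∧ f x = w := by
  classical
  have hp : ∀ x, InM maskS x → ∃ σ : ↥HH, (σ : PP) pv = x := fun x hx => by
    obtain ⟨σ, hσ, e⟩ := HH_transS pv_mem hx
    exact ⟨⟨σ, hσ⟩, e⟩
  let f : Fin 1782 → Ω := fun x => if h : InM maskS x then ψ (hp x h).choose b' else b'
  have hf : ∀ σ : ↥HH, f ((σ : PP) pv) = ψ σ b' := fun σ => by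
    have hx : InM maskS ((σ : PP) pv) := HH_invS σ.2 pv_mem
    simp only [f, dif_pos hx]
    have e := (hp _ hx).choose_spec
    generalize (hp _ hx).choose = τ at e
    have hj : (σ⁻¹ * τ : ↥HH).1 ∈ JJ := mem_JJ (SetLike.coe_mem _) (by
      simp only [Subgroup.coe_mul, Subgroup.coe_inv, Equiv.Perm.mul_apply, e, inv_app])
    have h1 := (hst _).2 hj
    rw [map_mul, Equiv.Perm.mul_apply, map_inv] at h1
    have h2 := congrArg (ψ σ) h1
    rwa [show ψ σ ((ψ σ)⁻¹ (ψ τ b')) = ψ τ b' from (ψ σ).apply_symm_apply _] at h2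
  refine ⟨f, by simpa using hf 1, fun σ x hx => ?_, fun x y hx hy e => ?_, fun x hx => ?_, ?_⟩
  · obtain ⟨τ, rfl⟩ := hp x hx
    rw [← Equiv.Perm.mul_apply, ← Subgroup.coe_mul, hf, hf, map_mul, Equiv.Perm.mul_apply]
  · obtain ⟨σ, rfl⟩ := hp x hx
    obtain ⟨τ, rfl⟩ := hp y hy
    rw [hf, hf] at e
    have h1 : ψ (τ⁻¹ * σ) b' = b' := by rw [map_mul, Equiv.Perm.mul_apply, e, map_inv, Equiv.Perm.coe_inv, Equiv.symm_apply_apply]
    have := JJ_fix ((hst _).1 h1)
    simp only [Subgroup.coe_mul, Subgroup.coe_inv, Equiv.Perm.mul_apply] at this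
    have h2 := congrArg (τ : PP) this
    rwa [show (τ : PP) ((τ : PP)⁻¹ ((σ : PP) pv)) = (σ : PP) pv from (τ : PP).apply_symm_apply _] at h2
  · obtain ⟨σ, rfl⟩ := hp x hx
    rw [hf]
    exact ⟨σ, rfl⟩
  · rintro w ⟨σ, rfl⟩
    exact ⟨_, HH_invS σ.2 pv_mem, hf σ⟩

/-- Two points form an edge if some element carries the base edge to them. -/
def Adj (G : Subgroup (Equiv.Perm Ω)) (a b' : Ω) (x y : Ω) : Prop := ∃ k ∈ G, k a = x ∧ k b' = y

theorem Adj_map {b' x y : Ω} {k : Equiv.Perm Ω} (hk : k ∈ G) :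
    Adj G a b' (k x) (k y) ↔ Adj G a b' x y := by
  constructor
  · rintro ⟨l, hl, h1, h2⟩
    exact ⟨k⁻¹ * l, mul_mem (inv_mem hk) hl, by simp [h1], by simp [h2]⟩
  · rintro ⟨l, hl, h1, h2⟩
    exact ⟨k * l, mul_mem hk hl, by simp [h1], by simp [h2]⟩

theorem Adj_base (S : Setup G a ψ) {b' y : Ω} : Adj G a b' a y ↔ y ∈ Orb ψ b' := by
  constructor
  · rintro ⟨k, hk, h1, h2⟩
    obtain ⟨σ, rfl⟩ := S.surj k hk h1
    exact ⟨σ, h2⟩
  · rintro ⟨σ, rfl⟩
    exact ⟨ψ σ, S.mem σ, S.fix σ, rfl⟩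

/-- The short suborbit is self-paired: some element swaps the two base points. -/
theorem exists_swap [Fintype Ω] (S : Setup G a ψ) (hΩ : Fintype.card Ω = 1782) {b' : Ω}
    (hb : (Orb ψ b').ncard = 416) (hc : (Orb ψ c).ncard = 1365) :
    ∃ g ∈ G, g a = b' ∧ g b' = a := by
  obtain ⟨k, hk, hka⟩ := S.trans b'
  let z : Ω := k⁻¹ a
  have hkz : k z = a := k.apply_symm_apply a
  have hcard : (Orb ψ z).ncard = 416 := by
    have e : Nat.card (stabK ψ z) = Nat.card (stabK ψ b') := by
      rw [stabK, stabK, Subgroup.card_map_of_injective HH.subtype_injective,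
        Subgroup.card_map_of_injective HH.subtype_injective]
      have into : ∀ σ : ((MulAction.stabilizer (Equiv.Perm Ω) z).comap ψ),
          ∃ τ : ((MulAction.stabilizer (Equiv.Perm Ω) b').comap ψ), ψ τ.1 = k * ψ σ.1 * k⁻¹ := by
        intro σ
        have hσ : ψ σ.1 z = z := σ.2
        obtain ⟨τ, hτ⟩ := S.surj (k * ψ σ.1 * k⁻¹) (mul_mem (mul_mem hk (S.mem _)) (inv_mem hk)) (by
          rw [Equiv.Perm.mul_apply, Equiv.Perm.mul_apply, show k⁻¹ a = z from rfl, hσ, hkz])
        refine ⟨⟨τ, ?_⟩, hτ⟩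
        show ψ τ b' = b'
        rw [hτ, Equiv.Perm.mul_apply, Equiv.Perm.mul_apply,
          show k⁻¹ b' = a from k.injective ((k.apply_symm_apply b').trans hka.symm), S.fix, hka]
      have back : ∀ τ : ((MulAction.stabilizer (Equiv.Perm Ω) b').comap ψ),
          ∃ σ : ((MulAction.stabilizer (Equiv.Perm Ω) z).comap ψ), ψ σ.1 = k⁻¹ * ψ τ.1 * k := by
        intro τ
        have hτ : ψ τ.1 b' = b' := τ.2
        obtain ⟨σ, hσ⟩ := S.surj (k⁻¹ * ψ τ.1 * k) (mul_mem (mul_mem (inv_mem hk) (S.mem _)) hk) (by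
          rw [Equiv.Perm.mul_apply, Equiv.Perm.mul_apply, hka, hτ, ← hka, Equiv.Perm.coe_inv,
            Equiv.symm_apply_apply])
        refine ⟨⟨σ, ?_⟩, hσ⟩
        show ψ σ z = z
        rw [hσ, Equiv.Perm.mul_apply, Equiv.Perm.mul_apply, hkz, S.fix]
      choose F hF using into
      choose B hB using back
      refine Nat.card_congr
        { toFun := F, invFun := B, left_inv := fun σ => ?_, right_inv := fun τ => ?_ }
      · refine Subtype.ext (S.inj ?_)
        rw [hB, hF]; group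
      · refine Subtype.ext (S.inj ?_)
        rw [hF, hB]; group
    have h1 := card_stabK ψ z
    have h2 := card_stabK ψ b'
    rw [e] at h1
    rw [hb] at h2
    have : Nat.card (stabK ψ b') = 604800 := by omega
    rw [this] at h1
    omega
  obtain ⟨hab, -, hbc, hall⟩ := S.three hΩ hb hc
  rcases hall z with h | h | h
  · exfalso
    rw [h, hka] at hkz
    exact hab (hkz ▸ self_mem_Orb ψ b')
  · obtain ⟨σ, hσ⟩ := h
    refine ⟨k * ψ σ, mul_mem hk (S.mem σ), by simp [S.fix, hka], ?_⟩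
    rw [Equiv.Perm.mul_apply, show ψ σ b' = z from hσ, hkz]
  · exfalso
    rw [Orb_eq h, hc] at hcard
    omega

/-- The points of the short suborbit adjacent to its base point are the 100 points. -/
theorem common_eq [Fintype Ω] (S : Setup G a ψ) (hΩ : Fintype.card Ω = 1782) {b' : Ω}
    (hst : ∀ σ : ↥HH, ψ σ b' = b' ↔ (σ : PP) ∈ JJ)
    (hb : (Orb ψ b').ncard = 416) (hc : (Orb ψ c).ncard = 1365) {g : Equiv.Perm Ω} (hg : g ∈ G)
    (hga : g a = b') (hgb : g b' = a) {f : Fin 1782 → Ω} (hf0 : f pv = b')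
    (hf : ∀ σ : ↥HH, ∀ x, InM maskS x → f ((σ : PP) x) = ψ σ (f x))
    (hfi : ∀ x y, InM maskS x → InM maskS y → f x = f y → x = y)
    (hfm : ∀ x, InM maskS x → f x ∈ Orb ψ b') (hfs : ∀ w ∈ Orb ψ b', ∃ x, InM maskS x ∧ f x = w) :
    ∀ x, InM maskS x → (Adj G a b' b' (f x) ↔ InM maskC x) := by
  classical
  obtain ⟨hab, hac, hbc, hall⟩ := S.three hΩ hb hc
  let R := Adj G a b'
  have hirr : ∀ x, ¬ R x x := fun x ⟨k, _, h1, h2⟩ =>
    hab (k.injective (h1.trans h2.symm) ▸ self_mem_Orb ψ b')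
  have hmove : ∀ (σ : ↥HH) x y, R (ψ σ x) (ψ σ y) ↔ R x y := fun σ x y => Adj_map (S.mem σ)
  let Ob : Finset Ω := Finset.univ.filter fun w => w ∈ Orb ψ b'
  let Oc : Finset Ω := Finset.univ.filter fun w => w ∈ Orb ψ c
  let N : Ω → Finset Ω := fun x => Finset.univ.filter fun y => R x y
  have hObc : Ob.card = 416 := by
    rw [← hb, ← Set.ncard_coe_finset]
    exact congrArg Set.ncard (Set.ext fun w => by simp [Ob])
  have hOcc : Oc.card = 1365 := by
    rw [← hc, ← Set.ncard_coe_finset]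
    exact congrArg Set.ncard (Set.ext fun w => by simp [Oc])
  have hNimg : ∀ k ∈ G, ∀ x, (N x).image k = N (k x) := fun k hk x => by
    ext y
    simp only [N, Finset.mem_image, Finset.mem_filter, Finset.mem_univ, true_and]
    constructor
    · rintro ⟨z, hz, rfl⟩
      exact (Adj_map hk).2 hz
    · intro hy
      exact ⟨k⁻¹ y, (Adj_map hk).1 (by rwa [show k (k⁻¹ y) = y from k.apply_symm_apply y]),
        k.apply_symm_apply y⟩
  have hNa : N a = Ob := Finset.ext fun y => by simp [N, Ob, R, Adj_base S]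
  have hNb : (N b').card = 416 := by
    rw [← hga, ← hNimg g hg, Finset.card_image_of_injective _ g.injective, hNa, hObc]
  let T : Finset (Fin 1782) := Finset.univ.filter fun x => InM maskS x ∧ R b' (f x)
  have hTinv : ∀ σ ∈ JJ, ∀ x, InM maskS x → (R b' (f (σ x)) ↔ R b' (f x)) := by
    intro σ hσ x hx
    rw [hf ⟨σ, JJ_le hσ⟩ x hx]
    nth_rewrite 1 [← (hst ⟨σ, JJ_le hσ⟩).2 hσ]
    exact hmove _ _ _
  have hCS : ∀ x, InM maskC x → InM maskS x := fun x h => maskS_cases.2 (Or.inr (Or.inl h))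
  have hOS : ∀ x, InM (OJ 4) x → InM maskS x := fun x h => maskS_cases.2 (Or.inr (Or.inr h))
  have h47 : InM maskC p47 := entries_data.2.2.2.2.2.2.2.2.2
  have h81 : InM (OJ 4) p81 := entries_data.2.2.2.2.2.2.2.1
  have honC : ∀ x, InM maskC x → (R b' (f x) ↔ R b' (f p47)) := by
    intro x hx
    obtain ⟨-, -, htr, -⟩ := orbJ_spec (i := 3) (by norm_num)
    obtain ⟨σ, hσ, rfl⟩ := htr p47 x (by rw [InM, maskS_eq.2]; exact h47) (by rw [InM, maskS_eq.2]; exact hx)
    exact hTinv σ hσ p47 (hCS _ h47)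
  have honO : ∀ x, InM (OJ 4) x → (R b' (f x) ↔ R b' (f p81)) := by
    intro x hx
    obtain ⟨-, -, htr, -⟩ := orbJ_spec (i := 4) (by norm_num)
    obtain ⟨σ, hσ, rfl⟩ := htr p81 x h81 hx
    exact hTinv σ hσ p81 (hOS _ h81)
  have hpv : ¬ R b' (f pv) := by rw [hf0]; exact hirr b'
  let A : Finset (Fin 1782) := Finset.univ.filter fun x => maskC.testBit x = true
  let B : Finset (Fin 1782) := Finset.univ.filter fun x => (OJ 4).testBit x = true
  have hA : A.card = 100 := cnt_C_O4.1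
  have hB : B.card = 315 := cnt_C_O4.2
  have hTsplit : ∀ p q : Prop, [Decidable p] → [Decidable q] → (R b' (f p47) ↔ p) → (R b' (f p81) ↔ q) →
      T.card = (if p then 100 else 0) + (if q then 315 else 0) := by
    intro p q _ _ hp hq
    have e : T = (if p then A else ∅) ∪ (if q then B else ∅) := by
      ext x
      simp only [T, Finset.mem_filter, Finset.mem_univ, true_and, Finset.mem_union]
      constructor
      · rintro ⟨hx, hR⟩
        rcases maskS_cases.1 hx with rfl | h | h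
        · exact absurd hR hpv
        · left; rw [if_pos (hp.1 ((honC x h).1 hR))]; simpa [A, InM] using h
        · right; rw [if_pos (hq.1 ((honO x h).1 hR))]; simpa [B, InM] using h
      · rintro (h | h)
        · split_ifs at h with hp'
          · have h' : InM maskC x := by simpa [A, InM] using h
            exact ⟨hCS x h', (honC x h').2 (hp.2 hp')⟩
          · simp at h
        · split_ifs at h with hq'
          · have h' : InM (OJ 4) x := by simpa [B, InM] using h
            exact ⟨hOS x h', (honO x h').2 (hq.2 hq')⟩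
          · simp at h
    rw [e, Finset.card_union_of_disjoint]
    · split_ifs <;> simp [hA, hB]
    · rw [Finset.disjoint_left]
      intro x hx hx'
      split_ifs at hx hx' <;> simp only [A, B, Finset.mem_filter, Finset.notMem_empty] at hx hx'
      exact not_C_O4 hx.2 hx'.2
  have hTN : T.card = ((N b').filter fun w => w ∈ Orb ψ b').card := by
    refine Finset.card_bij (fun x _ => f x) (fun x hx => ?_) (fun x hx y hy e => ?_) (fun w hw => ?_)
    · simp only [T, N, Finset.mem_filter, Finset.mem_univ, true_and] at hx ⊢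
      exact ⟨hx.2, hfm x hx.1⟩
    · simp only [T, Finset.mem_filter, Finset.mem_univ, true_and] at hx hy
      exact hfi x y hx.1 hy.1 e
    · simp only [N, Finset.mem_filter, Finset.mem_univ, true_and] at hw
      obtain ⟨x, hx, rfl⟩ := hfs w hw.2
      exact ⟨x, by simp [T, hx, hw.1], rfl⟩
  let n := ((N b').filter fun w => w ∈ Orb ψ c).card
  have hsum : 1 + T.card + n = 416 := by
    have haN : a ∈ N b' := by
      simp only [N, Finset.mem_filter, Finset.mem_univ, true_and]
      exact ⟨g, hg, hga, hgb⟩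
    have e : N b' = {a} ∪ ((N b').filter fun w => w ∈ Orb ψ b') ∪ ((N b').filter fun w => w ∈ Orb ψ c) := by
      ext y
      simp only [Finset.mem_union, Finset.mem_singleton, Finset.mem_filter]
      constructor
      · intro hy
        rcases hall y with h | h | h <;> tauto
      · rintro ((rfl | h) | h)
        · exact haN
        · exact h.1
        · exact h.1
    rw [e, Finset.card_union_of_disjoint, Finset.card_union_of_disjoint, Finset.card_singleton, ← hTN] at hNb
    · exact hNb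
    · simp [hab]
    · rw [Finset.disjoint_left]
      intro y hy hy'
      simp only [Finset.mem_union, Finset.mem_singleton, Finset.mem_filter] at hy hy'
      rcases hy with rfl | hy
      · exact hac hy'.2
      · exact Set.disjoint_left.1 hbc hy.2 hy'.2
  have hdvd : 1365 ∣ 416 * n := by
    have hswap := Finset.sum_card_bipartiteAbove_eq_sum_card_bipartiteBelow R (s := Ob) (t := Oc)
    have e1 : ∀ y ∈ Ob, (Oc.bipartiteAbove R y).card = n := by
      intro y hy
      obtain ⟨σ, hσ⟩ : y ∈ Orb ψ b' := (Finset.mem_filter.1 hy).2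
      subst hσ
      refine Eq.symm (Finset.card_bij (fun w _ => ψ σ w) (fun w hw => ?_) (fun _ _ _ _ e => (ψ σ).injective e)
        (fun w hw => ?_))
      · simp only [N, Oc, Finset.bipartiteAbove, Finset.mem_filter, Finset.mem_univ, true_and] at hw ⊢
        exact ⟨Orb_inv hw.2 σ, (hmove σ _ _).2 hw.1⟩
      · simp only [N, Oc, Finset.bipartiteAbove, Finset.mem_filter, Finset.mem_univ, true_and] at hw ⊢
        refine ⟨(ψ σ)⁻¹ w, ⟨(hmove σ _ _).1 ?_, ?_⟩, (ψ σ).apply_symm_apply w⟩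
        · rw [show ψ σ ((ψ σ)⁻¹ w) = w from (ψ σ).apply_symm_apply w]; exact hw.2
        · rw [← map_inv]; exact Orb_inv hw.1 σ⁻¹
    have hcmem : c ∈ Oc := by simp [Oc, self_mem_Orb]
    have e2 : ∀ z ∈ Oc, (Ob.bipartiteBelow R z).card = (Ob.bipartiteBelow R c).card := by
      intro z hz
      obtain ⟨σ, hσ⟩ : z ∈ Orb ψ c := (Finset.mem_filter.1 hz).2
      subst hσ
      refine Eq.symm (Finset.card_bij (fun w _ => ψ σ w) (fun w hw => ?_) (fun _ _ _ _ e => (ψ σ).injective e)
        (fun w hw => ?_))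
      · simp only [Ob, Finset.bipartiteBelow, Finset.mem_filter, Finset.mem_univ, true_and] at hw ⊢
        exact ⟨Orb_inv hw.1 σ, (hmove σ _ _).2 hw.2⟩
      · simp only [Ob, Finset.bipartiteBelow, Finset.mem_filter, Finset.mem_univ, true_and] at hw ⊢
        refine ⟨(ψ σ)⁻¹ w, ⟨?_, (hmove σ _ _).1 ?_⟩, (ψ σ).apply_symm_apply w⟩
        · rw [← map_inv]; exact Orb_inv hw.1 σ⁻¹
        · rw [show ψ σ ((ψ σ)⁻¹ w) = w from (ψ σ).apply_symm_apply w]; exact hw.2
    rw [Finset.sum_congr rfl e1, Finset.sum_congr rfl e2, Finset.sum_const, Finset.sum_const,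
      smul_eq_mul, smul_eq_mul, hObc, hOcc] at hswap
    exact ⟨_, hswap⟩
  have hnoblock : T.card ≠ 415 := by
    intro hT
    have hn : n = 0 := by omega
    let Bk : Ω → Finset Ω := fun x => insert x (N x)
    have hBimg : ∀ k ∈ G, ∀ x, (Bk x).image k = Bk (k x) := fun k hk x => by
      simp only [Bk, Finset.image_insert, hNimg k hk]
    have hBb : Bk b' = Bk a := by
      have hsub : Bk b' ⊆ Bk a := by
        intro y hy
        simp only [Bk, Finset.mem_insert] at hy ⊢
        rcases hy with rfl | hy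
        · exact Or.inr (by rw [hNa]; simp [Ob, self_mem_Orb])
        · rcases hall y with h | h | h
          · exact Or.inl h
          · exact Or.inr (by rw [hNa]; simp [Ob, h])
          · exact absurd hn (Finset.card_pos.2 ⟨y, Finset.mem_filter.2 ⟨hy, h⟩⟩).ne'
      refine Finset.eq_of_subset_of_card_le hsub ?_
      simp only [Bk]
      rw [Finset.card_insert_of_notMem (by simp [N, hirr]), Finset.card_insert_of_notMem
        (by simp [N, hirr]), hNb, hNa, hObc]
    have hBmem : ∀ y ∈ Bk a, Bk y = Bk a := by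
      intro y hy
      simp only [Bk, Finset.mem_insert] at hy
      rcases hy with rfl | hy
      · rfl
      · rw [hNa] at hy
        obtain ⟨σ, hσ⟩ : y ∈ Orb ψ b' := (Finset.mem_filter.1 hy).2
        subst hσ
        rw [← hBimg _ (S.mem σ), hBb, hBimg _ (S.mem σ), S.fix]
    let M : Subgroup G :=
      { carrier := {k | Bk ((k : Equiv.Perm Ω) a) = Bk a}
        one_mem' := rfl
        mul_mem' := fun {k l} hk hl => by
          show Bk (((k : Equiv.Perm Ω) * l) a) = Bk a
          rw [Equiv.Perm.mul_apply, ← hBimg k k.2, show Bk ((l : Equiv.Perm Ω) a) = Bk a from hl,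
            hBimg k k.2]
          exact hk
        inv_mem' := fun {k} hk => by
          show Bk ((k : Equiv.Perm Ω)⁻¹ a) = Bk a
          conv_lhs => rw [← hBimg _ (inv_mem k.2), show Bk a = Bk ((k : Equiv.Perm Ω) a) from hk.symm,
            hBimg _ (inv_mem k.2)]
          rw [inv_app'] }
    have h := Subgroup.card_mul_index (MulAction.stabilizer M a)
    rw [MulAction.index_stabilizer] at h
    have e1 : Nat.card (MulAction.stabilizer M a) = 251596800 := by
      rw [← card_HH]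
      refine Nat.card_congr (Equiv.ofBijective (fun σ => (⟨⟨⟨ψ σ, S.mem σ⟩,
          show Bk (ψ σ a) = Bk a by rw [S.fix]⟩, S.fix σ⟩ :
        MulAction.stabilizer M a)) ⟨fun σ τ e => S.inj ?_, fun k => ?_⟩).symm
      · exact congrArg (fun u : MulAction.stabilizer M a => (((u : M) : G) : Equiv.Perm Ω)) e
      · obtain ⟨σ, hσ⟩ := S.surj k.1.1.1 k.1.1.2 k.2
        exact ⟨σ, Subtype.ext (Subtype.ext (Subtype.ext hσ))⟩
    have e2 : (MulAction.orbit M a).ncard = 417 := by
      have : MulAction.orbit M a = ↑(Bk a) := by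
        ext y
        constructor
        · rintro ⟨k, rfl⟩
          show ((k : G) : Equiv.Perm Ω) a ∈ Bk a
          rw [← show Bk (((k : G) : Equiv.Perm Ω) a) = Bk a from k.2]
          exact Finset.mem_insert_self _ _
        · intro hy
          obtain ⟨k, hk, rfl⟩ := S.trans y
          exact ⟨⟨⟨k, hk⟩, hBmem _ hy⟩, rfl⟩
      rw [this, Set.ncard_coe_finset]
      simp only [Bk]
      rw [Finset.card_insert_of_notMem (by simp [N, hirr]), hNa, hObc]
    rw [e1, e2] at h
    have hd := M.card_subgroup_dvd_card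
    rw [S.card_G hΩ, ← h] at hd
    norm_num at hd
  intro x hx
  by_cases hp : R b' (f p47) <;> by_cases hq : R b' (f p81)
  · exact absurd (by simpa using hTsplit True True (by simp [hp]) (by simp [hq])) hnoblock
  · rcases maskS_cases.1 hx with rfl | h | h
    · exact iff_of_false hpv (by simp [InM, show (pv : ℕ) = 995 from rfl, maskS_split.2.2.1])
    · exact iff_of_true ((honC x h).2 hp) h
    · exact iff_of_false (fun e => hq ((honO x h).1 e)) fun e => not_C_O4 e h
  · exfalso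
    have hT : T.card = 315 := by simpa using hTsplit False True (by simp [hp]) (by simp [hq])
    rw [show n = 100 by omega] at hdvd
    omega
  · exfalso
    have hT : T.card = 0 := by simpa using hTsplit False False (by simp [hp]) (by simp [hq])
    rw [show n = 415 by omega] at hdvd
    omega


end CfsgLib.Recog.Suz1782
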