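import Cfsg.Agent.Lib.Recog.Suz1782.Model

/-!
The stabiliser of the second point, its stabiliser of 81, and the uniqueness of the overgroup of
index 1365 of the latter.
-/

set_option autoImplicit false
set_option maxRecDepth 100000

namespace CfsgLib.Recog.Suz1782

open CfsgLib.Recog.McL275

/-- The stabiliser of a point in a subgroup. -/
noncomputable def stabIn (K : Subgroup PP) (x : Fin 1782) : Subgroup PP :=
  K ⊓ MulAction.stabilizer PP x

theorem mem_stabIn {K : Subgroup PP} {x : Fin 1782} {σ : PP} : σ ∈ stabIn K x ↔ σ ∈ K ∧ σ x = x :=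
  Iff.rfl

open scoped _root_.Classical in
/-- The orbit of a point under a subgroup. -/
noncomputable def orbF (K : Subgroup PP) (x : Fin 1782) : Finset (Fin 1782) :=
  Finset.univ.filter fun y => ∃ σ ∈ K, σ x = y

theorem mem_orbF {K : Subgroup PP} {x y : Fin 1782} : y ∈ orbF K x ↔ ∃ σ ∈ K, σ x = y := by
  classical
  simp [orbF]

theorem orbF_inv {K : Subgroup PP} {x y : Fin 1782} {τ : PP} (hτ : τ ∈ K) (hy : y ∈ orbF K x) :
    τ y ∈ orbF K x := by
  obtain ⟨σ, hσ, rfl⟩ := mem_orbF.1 hy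
  exact mem_orbF.2 ⟨τ * σ, mul_mem hτ hσ, rfl⟩

theorem self_mem_orbF (K : Subgroup PP) (x : Fin 1782) : x ∈ orbF K x :=
  mem_orbF.2 ⟨1, one_mem _, rfl⟩

theorem card_orbF (K : Subgroup PP) (x : Fin 1782) :
    Nat.card (stabIn K x) * (orbF K x).card = Nat.card K := by
  have h := Subgroup.card_mul_index (MulAction.stabilizer K x)
  rw [MulAction.index_stabilizer] at h
  have e1 : Nat.card (MulAction.stabilizer K x) = Nat.card (stabIn K x) :=
    Nat.card_congr
      { toFun := fun σ => ⟨σ.1.1, σ.1.2, σ.2⟩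
        invFun := fun σ => ⟨⟨σ.1, σ.2.1⟩, σ.2.2⟩
        left_inv := fun _ => rfl
        right_inv := fun _ => rfl }
  have e2 : (MulAction.orbit K x).ncard = (orbF K x).card := by
    rw [← Set.ncard_coe_finset]
    refine congrArg Set.ncard (Set.ext fun y => ?_)
    simp only [Finset.mem_coe, mem_orbF, MulAction.mem_orbit_iff]
    exact ⟨fun ⟨σ, e⟩ => ⟨σ.1, σ.2, e⟩, fun ⟨σ, hσ, e⟩ => ⟨⟨σ, hσ⟩, e⟩⟩
  rw [e1, e2] at h
  exact h

/-- An invariant set on which a subgroup is transitive is the orbit of each of its points. -/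
theorem orbF_eq {K : Subgroup PP} {M : ℕ} (hinv : ∀ σ ∈ K, ∀ x, InM M x → InM M (σ x))
    (htr : ∀ x y, InM M x → InM M y → ∃ σ ∈ K, σ x = y) {x : Fin 1782} (hx : InM M x) :
    orbF K x = Finset.univ.filter fun y : Fin 1782 => M.testBit y = true := by
  ext y
  simp only [mem_orbF, Finset.mem_filter, Finset.mem_univ, true_and]
  exact ⟨fun ⟨σ, hσ, e⟩ => e ▸ hinv σ hσ x hx, fun hy => htr x y hx hy⟩

/-- The point 81. -/
def p81 : Fin 1782 := ⟨81, by norm_num⟩

/-- The point 44. -/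
def p44 : Fin 1782 := ⟨44, by norm_num⟩

/-- The point 47. -/
def p47 : Fin 1782 := ⟨47, by norm_num⟩

theorem maskS_eq : (entry orbH 2).2.2.1 = maskS ∧ (entry orbJ 3).2.2.1 = maskC := by
  have h := sets_ok
  simp only [setsOK, Bool.and_eq_true] at h
  exact ⟨(Nat.eq_of_beq_eq_true h.1.1.1.1.1.1.1).symm, (Nat.eq_of_beq_eq_true h.1.1.1.1.1.2).symm⟩

theorem entries_data : (entry orbH 2).2.1 = 416 ∧ (entry orbH 1).2.1 = 1365 ∧
    (entry orbJ 4).2.1 = 315 ∧ (entry orbJ 1).2.1 = 315 ∧ (entry orbJ 2).2.1 = 1050 ∧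
    (entry orbJ 3).2.1 = 100 ∧
    maskS.testBit 995 = true ∧ (entry orbJ 4).2.2.1.testBit 81 = true ∧
    (entry orbH 1).2.2.1.testBit 44 = true ∧ maskC.testBit 47 = true := by decide +kernel

theorem pv_mem : InM maskS pv := entries_data.2.2.2.2.2.2.1

theorem HH_invS {σ : PP} (hσ : σ ∈ HH) {x : Fin 1782} (hx : InM maskS x) : InM maskS (σ x) := by
  have h := (orbH_spec (i := 2) (by norm_num)).2.1 σ hσ x
  rw [maskS_eq.1] at h
  exact h hx

theorem HH_transS {x y : Fin 1782} (hx : InM maskS x) (hy : InM maskS y) : ∃ σ ∈ HH, σ x = y := by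
  have h := (orbH_spec (i := 2) (by norm_num)).2.2 x y
  rw [maskS_eq.1] at h
  exact h hx hy

theorem cnt_maskS : cnt maskS = 416 := by
  have h := (orbH_spec (i := 2) (by norm_num)).1
  rw [maskS_eq.1, entries_data.1] at h
  exact h

theorem card_stab_S {x : Fin 1782} (hx : InM maskS x) : Nat.card (stabIn HH x) = 604800 := by
  have h := card_orbF HH x
  rw [orbF_eq (fun σ hσ y hy => HH_invS hσ hy) (fun y z hy hz => HH_transS hy hz) hx, card_HH] at h
  have := cnt_maskS
  rw [cnt] at this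
  rw [this] at h
  omega

theorem fixJ_gen : ∀ k < 5, P k ∈ JJ := fun _ hk => P_mem hk

theorem card_JJ_ge : 604800 ≤ Nat.card JJ :=
  lvl_prods.1 ▸ lvl_le okP.1 (okP.2.symm ▸ (by norm_num : 5 ≤ 12)) fixJ_gen lvlJ_ok

theorem JJ_eq : JJ = stabIn HH pv :=
  Subgroup.eq_of_le_of_card_ge (fun σ hσ => ⟨JJ_le hσ, JJ_fix hσ⟩)
    ((card_stab_S pv_mem).le.trans card_JJ_ge)

theorem card_JJ : Nat.card JJ = 604800 := by rw [JJ_eq, card_stab_S pv_mem]

theorem mem_JJ {σ : PP} (hσ : σ ∈ HH) (hv : σ pv = pv) : σ ∈ JJ := JJ_eq.symm ▸ ⟨hσ, hv⟩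

/-- An element of the Hall-Janko subgroup fixing the 100 points is trivial. -/
theorem JJ_faithful {σ : PP} (hσ : σ ∈ JJ) (h : ∀ x, InM maskC x → σ x = x) : σ = 1 := by
  refine lvl_faithful okP.1 (okP.2.symm ▸ (by norm_num : 5 ≤ 12)) fixJ_gen lvlJ_ok
    (by rw [card_JJ, lvl_prods.1]) hσ fun a ha hlt => h _ ?_
  have := List.all_eq_true.1 lvl_prods.2.2.2.2.2.2.1 a ha
  exact this

/-- An element of the point stabiliser fixing the six-point base is trivial. -/
theorem HH_faithful {σ : PP} (hσ : σ ∈ HH) (h : ∀ a ∈ lvlBase lvlH, ∀ hlt : a < 1782, σ ⟨a, hlt⟩ = ⟨a, hlt⟩) :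
    σ = 1 :=
  lvl_faithful okP.1 (okP.2.symm ▸ (by norm_num : 6 ≤ 12)) (fun _ hk => P_mem hk) lvlH_ok
    (by rw [card_HH, lvl_prods.2.2.1]) hσ h

/-- The stabiliser of 81 in the Hall-Janko subgroup. -/
noncomputable def M81 : Subgroup PP := stabIn JJ p81

theorem card_M81 : Nat.card M81 = 1920 := by
  have h := card_orbF JJ p81
  obtain ⟨hc, hinv, htr, -⟩ := orbJ_spec (i := 4) (by norm_num)
  rw [orbF_eq (x := p81) hinv htr entries_data.2.2.2.2.2.2.2.1, card_JJ] at h
  rw [cnt, entries_data.2.2.1] at hc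
  rw [hc] at h
  show Nat.card (stabIn JJ p81) = _
  omega

theorem wordM_mem {w : ℕ} (hw : w ∈ wordM) : (∀ k ∈ dec w, k < 12) ∧ W (dec w) ∈ M81 := by
  have h := List.all_eq_true.1 wordsM_ok w hw
  simp only [Bool.and_eq_true] at h
  have hb := below_iff.1 h.1
  have h12 : ∀ k ∈ dec w, k < 12 := fun k hk => Nat.lt_trans (hb k hk) (by norm_num)
  refine ⟨h12, W_mem hb, Fin.ext ?_⟩
  show ((W (dec w) p81 : Fin 1782) : ℕ) = 81
  rw [W_val h12]
  exact Nat.eq_of_beq_eq_true h.2

/-- The first false swap commutes with the Hall-Janko subgroup. -/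
theorem P8_comm {σ : PP} (hσ : σ ∈ JJ) : P 8 * σ = σ * P 8 := by
  have hle : JJ ≤ Subgroup.centralizer {P 8} := by
    refine (Subgroup.closure_le _).2 ?_
    rintro _ ⟨k, hk, rfl⟩
    rw [SetLike.mem_coe, Subgroup.mem_centralizer_singleton_iff]
    have h := rel_ok
    simp only [relOK, Bool.and_eq_true, List.all_eq_true, List.mem_range] at h
    have e := (h.1.1.1.1.1.1.1.1.1.1.1 k hk).1.2
    have hk12 : k < 12 := Nat.lt_trans hk (by norm_num)
    have := W_eq (L := [8, k]) (L' := [k, 8]) (by simp [hk12]) (by simp [hk12]) e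
    simpa [W, permL] using this.symm
  exact (Subgroup.mem_centralizer_singleton_iff.1 (hle hσ)).symm

theorem P8_81 : P 8 p81 = p44 := by
  have h := rel_ok
  simp only [relOK, Bool.and_eq_true] at h
  refine Fin.ext ?_
  rw [P_val (by norm_num)]
  exact Nat.eq_of_beq_eq_true h.1.1.1.2

theorem M81_fix44 {σ : PP} (hσ : σ ∈ M81) : σ p44 = p44 := by
  rw [← P8_81, ← Equiv.Perm.mul_apply, ← P8_comm hσ.1, Equiv.Perm.mul_apply, (mem_stabIn.1 hσ).2]

/-- The union of some of the orbits of the stabiliser of 81. -/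
noncomputable def uMask (sel : ℕ) : ℕ :=
  ((List.range 9).filter fun i => sel.testBit i).foldl (fun m i => m ||| (entry orbMS i).2.2.1) 0

/-- The size of such a union. -/
noncomputable def uSum (sel : ℕ) : ℕ :=
  (((List.range 9).filter fun i => sel.testBit i).map fun i => (entry orbMS i).2.1).sum

/-- The orbits of the stabiliser of 81 making up the distinguished set. -/
def selS0 : ℕ := 0b100111110

theorem sel_facts :
    (∀ sel < 512, sel.testBit 2 = true → sel &&& 0b100000011 = 0 → 315 % uSum sel = 0 →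
      uSum sel = 1 ∨ uSum sel = 315) ∧
    (∀ sel < 512, sel.testBit 8 = true → uSum sel = 96 → sel = selS0) ∧
    (∀ sel < 512, popN 223 (uMask sel) = uSum sel) ∧
    (∀ i < 9, i = 0 ∨ i = 1 ∨ i = 8 → (entry orbJ 4).2.2.1.testBit (entry orbMS i).1 = false) ∧
    (entry orbMS 2).1 = 81 ∧ (entry orbMS 8).1 = 995 ∧
    (uMask selS0).testBit 79 = true ∧ (uMask selS0).testBit 47 = false ∧ maskC.testBit 79 = true := by
  refine ⟨?_, ?_, ?_, ?_, ?_, ?_, ?_, ?_, ?_⟩ <;> decide +kernel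

theorem uMask_high (sel : ℕ) {j : ℕ} (hj : 1782 ≤ j) : (uMask sel).testBit j = false := by
  by_contra h
  rw [Bool.not_eq_false, uMask, testBit_foldl, Bool.or_eq_true, List.any_eq_true] at h
  rcases h with h | ⟨i, hi, h⟩
  · simp at h
  · have hi' : i < 9 := List.mem_range.1 (List.mem_filter.1 hi).1
    have := (orbits_entry orbMS_ok (fun _ h => testBit_maskS h) (orbH_length.2.2.symm ▸ hi')).2.2.2.2 j h
    rw [testBit_maskS hj] at this
    exact Bool.false_ne_true this

theorem cnt_uMask {sel : ℕ} (h : sel < 512) : cnt (uMask sel) = uSum sel := by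
  rw [cnt_pop fun j hj => uMask_high sel hj, sel_facts.2.2.1 sel h]

/-- A subset of the suborbit invariant under the stabiliser of 81 is a union of orbits. -/
theorem exists_sel (T : Finset (Fin 1782)) (hS : ∀ x ∈ T, InM maskS x)
    (hinv : ∀ σ ∈ M81, ∀ x ∈ T, σ x ∈ T) :
    ∃ sel < 512, (∀ x, x ∈ T ↔ InM (uMask sel) x) ∧ T.card = uSum sel ∧
      ∀ i < 9, ∀ r : Fin 1782, (r : ℕ) = (entry orbMS i).1 → (sel.testBit i = true ↔ r ∈ T) := by
  have hroot : ∀ i < 9, (entry orbMS i).1 < 1782 := fun i hi => by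
    obtain ⟨-, h2, -, -, h5⟩ := orbits_entry orbMS_ok (fun _ h => testBit_maskS h) (orbH_length.2.2.symm ▸ hi)
    by_contra hb
    have := h5 _ h2
    rw [testBit_maskS (Nat.not_lt.1 hb)] at this
    exact Bool.false_ne_true this
  let b : Fin 9 → Bool := fun i => decide ((⟨_, hroot i i.2⟩ : Fin 1782) ∈ T)
  obtain ⟨sel, hlt, hsel⟩ : ∃ sel < 512, ∀ i : Fin 9, sel.testBit i = b i := by
    have key : ∀ b0 b1 b2 b3 b4 b5 b6 b7 b8 : Bool, ∃ sel < 512,
        ∀ i : Fin 9, sel.testBit i = [b0, b1, b2, b3, b4, b5, b6, b7, b8].getD i false := by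
      intro b0 b1 b2 b3 b4 b5 b6 b7 b8
      refine ⟨b0.toNat + 2 * b1.toNat + 4 * b2.toNat + 8 * b3.toNat + 16 * b4.toNat + 32 * b5.toNat +
        64 * b6.toNat + 128 * b7.toNat + 256 * b8.toNat, ?_, ?_⟩
      · have := fun b : Bool => Bool.toNat_le b
        have h0 := this b0; have h1 := this b1; have h2 := this b2; have h3 := this b3; have h4 := this b4
        have h5 := this b5; have h6 := this b6; have h7 := this b7; have h8 := this b8
        omega
      · revert b0 b1 b2 b3 b4 b5 b6 b7 b8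
        decide +kernel
    obtain ⟨sel, h1, h2⟩ := key (b 0) (b 1) (b 2) (b 3) (b 4) (b 5) (b 6) (b 7) (b 8)
    refine ⟨sel, h1, fun i => ?_⟩
    rw [h2 i]
    fin_cases i <;> rfl
  have hiff : ∀ i < 9, ∀ r : Fin 1782, (r : ℕ) = (entry orbMS i).1 → (sel.testBit i = true ↔ r ∈ T) := by
    intro i hi r hr
    rw [show r = ⟨_, hroot i hi⟩ from Fin.ext hr, hsel ⟨i, hi⟩]
    simp [b]
  have horb : ∀ i < 9, ∀ x : Fin 1782, InM (entry orbMS i).2.2.1 x → (x ∈ T ↔ sel.testBit i = true) := by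
    intro i hi x hx
    obtain ⟨-, -, -, h4, -⟩ := orbits_entry orbMS_ok (fun _ h => testBit_maskS h) (orbH_length.2.2.symm ▸ hi)
    obtain ⟨y, hy, hyT⟩ := h4 (fun z => ∃ y : Fin 1782, (y : ℕ) = z ∧ (y ∈ T ↔ sel.testBit i = true))
      (fun a k c hs ⟨y, hy, hyT⟩ => by
        simp only [stepW, Bool.and_eq_true, Nat.blt_eq] at hs
        have hw : wordM.getD k 0 ∈ wordM := by
          rw [List.getD_eq_getElem _ _ hs.1]; exact List.getElem_mem _
        obtain ⟨h12, hmem⟩ := wordM_mem hw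
        refine ⟨W (dec (wordM.getD k 0)) y, ?_, ?_⟩
        · rw [W_val h12, hy]; exact Nat.eq_of_beq_eq_true hs.2
        · rw [← hyT]
          refine ⟨fun h => ?_, fun h => hinv _ hmem y h⟩
          have := hinv _ (inv_mem hmem) _ h
          rwa [inv_app] at this)
      ⟨⟨_, hroot i hi⟩, rfl, (hiff i hi _ rfl).symm⟩ x hx
    rwa [show y = x from Fin.ext hy] at hyT
  have hT : ∀ x, x ∈ T ↔ InM (uMask sel) x := by
    intro x
    constructor
    · intro hx
      have h := orbMS_ok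
      simp only [orbitsOK, Bool.and_eq_true] at h
      have hm := hS x hx
      rw [InM, ← Nat.eq_of_beq_eq_true h.1.2, testBit_foldl, Bool.or_eq_true, List.any_eq_true] at hm
      rcases hm with hm | ⟨e, he, hm⟩
      · simp at hm
      · obtain ⟨i, hi, rfl⟩ := List.getElem_of_mem he
        have hi' : i < 9 := orbH_length.2.2 ▸ hi
        have hme : InM (entry orbMS i).2.2.1 x := by
          rw [InM, entry, List.getD_eq_getElem _ _ hi]; exact hm
        rw [InM, uMask, testBit_foldl, Bool.or_eq_true, List.any_eq_true]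
        exact Or.inr ⟨i, List.mem_filter.2 ⟨List.mem_range.2 hi', (horb i hi' x hme).1 hx⟩, hme⟩
    · intro hx
      rw [InM, uMask, testBit_foldl, Bool.or_eq_true, List.any_eq_true] at hx
      rcases hx with hx | ⟨i, hi, hx⟩
      · simp at hx
      · obtain ⟨hi1, hi2⟩ := List.mem_filter.1 hi
        exact (horb i (List.mem_range.1 hi1) x hx).2 hi2
  refine ⟨sel, hlt, hT, ?_, hiff⟩
  rw [← cnt_uMask hlt, cnt]
  exact congrArg Finset.card (Finset.ext fun x => by simp [hT x, InM])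

end CfsgLib.Recog.Suz1782
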